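import Groth.Agent.Lib.CIPic27.Good
import Mathlib.LinearAlgebra.Matrix.Charpoly.LinearMap
import Mathlib.RingTheory.Localization.BaseChange
import Mathlib.RingTheory.Ideal.KrullsHeightTheorem

/-!
# Local freeness tools
-/

set_option autoImplicit false
set_option linter.style.haveILetI false

universe u

open IsLocalRing TensorProduct Polynomial

noncomputable section

namespace Groth.Agent.CIPic27

variable {B : Type u} [CommRing B] {X : Type u} [AddCommGroup X] [Module B X]

/-- A Nakayama lemma at a prime. -/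
theorem exists_annihilator_not_mem [Module.Finite B X] (p : PrimeSpectrum B) {t w : B} (ht : t ∈ p.asIdeal)
    (hw : w ∉ p.asIdeal) (h : ∀ x : X, ∃ y, w • x = t • y) : ∃ P ∉ p.asIdeal, ∀ x : X, P • x = 0 := by
  have hI : LinearMap.range (algebraMap B (Module.End B X) w) ≤ Ideal.span {t} • (⊤ : Submodule B X) := by
    rintro _ ⟨x, rfl⟩
    obtain ⟨y, hy⟩ := h x
    rw [Module.algebraMap_end_apply, hy]
    exact Submodule.smul_mem_smul (Ideal.mem_span_singleton_self t) trivial
  obtain ⟨f, hf, -, hcoef, h0⟩ :=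
    LinearMap.exists_monic_and_natDegree_eq_and_coeff_mem_pow_and_aeval_eq_zero B _ _ hI
  refine ⟨f.eval w, fun hP => hw (p.isPrime.mem_of_pow_mem f.natDegree ?_), fun x => ?_⟩
  · rw [eval_eq_sum_range, Finset.sum_range_succ, hf.coeff_natDegree, one_mul] at hP
    refine (Submodule.add_mem_iff_right _ (sum_mem fun k hk => ?_)).1 hP
    refine Ideal.mul_mem_right _ _ ?_
    exact (Ideal.span_singleton_le_iff_mem _).2 ht
      (Ideal.pow_le_self (Nat.sub_ne_zero_of_lt (Finset.mem_range.1 hk)) (hcoef k))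
  · rw [← Module.algebraMap_end_apply (R := B) (S := B), ← coe_aeval_eq_eval, ← aeval_algebraMap_apply, h0]
    rfl

/-- Local generator from one modulo a regular element. -/
theorem free1_of_mod [IsNoetherianRing B] [Module.Finite B X] {t : B} (p : PrimeSpectrum B) (ht : t ∈ p.asIdeal)
    {U : X} {w : B} (hw : w ∉ p.asIdeal) (htf : ∀ x : X, t • x = 0 → x = 0)
    (hgen : ∀ x : X, ∃ (c : B) (y : X), w • x = c • U + t • y)
    (hann : ∀ c : B, c • U = 0 → ∃ c' : B, w * c = t * c') : Free1 B X p := by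
  let Q := X ⧸ Submodule.span B {U}
  obtain ⟨P, hP, hP0⟩ := exists_annihilator_not_mem (X := Q) p ht hw fun q => by
    obtain ⟨x, rfl⟩ := Submodule.Quotient.mk_surjective _ q
    obtain ⟨c, y, hy⟩ := hgen x
    refine ⟨Submodule.Quotient.mk y, ?_⟩
    rw [← Submodule.Quotient.mk_smul, ← Submodule.Quotient.mk_smul, Submodule.Quotient.eq, hy, add_sub_cancel_right]
    exact Submodule.smul_mem _ _ (Submodule.mem_span_singleton_self U)
  let K : Ideal B := LinearMap.ker (LinearMap.toSpanSingleton B X U)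
  haveI : Module.Finite B K := Module.Finite.iff_fg.2 (IsNoetherian.noetherian _)
  obtain ⟨P', hP', hP'0⟩ := exists_annihilator_not_mem (X := K) p ht hw fun k => by
    obtain ⟨c', hc'⟩ := hann (k : B) k.2
    refine ⟨⟨c', htf _ ?_⟩, Subtype.ext hc'⟩
    rw [LinearMap.toSpanSingleton_apply, ← mul_smul, ← hc', mul_smul, show (k : B) • U = 0 from k.2, smul_zero]
  refine free1_of_pointwise p U (fun x => ⟨P, hP, ?_⟩) fun c hc => ⟨P', hP', ?_⟩
  · have h := hP0 (Submodule.Quotient.mk x)
    rw [← Submodule.Quotient.mk_smul, Submodule.Quotient.mk_eq_zero, Submodule.mem_span_singleton] at h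
    obtain ⟨c, hc⟩ := h
    exact ⟨c, hc.symm⟩
  · exact congrArg Subtype.val (hP'0 ⟨c, hc⟩)

theorem free1_dual [IsNoetherianRing B] [Module.Finite B X] {p : PrimeSpectrum B} (h : Free1 B X p) :
    Free1 B (D B X) p := by
  obtain ⟨r, π, hπ⟩ := Module.Finite.exists_fin' B X
  haveI : Module.Finite B (D B X) :=
    Module.Finite.of_injective (LinearMap.lcomp B B π) fun f g h => (LinearMap.cancel_right hπ).1 h
  obtain ⟨u, s, hs, h1, h2⟩ := h
  obtain ⟨ψ, hψ, hψ'⟩ := exists_func u s h1 h2
  refine free1_of_pointwise p ψ (fun φ => ⟨s * s, fun h' => (p.isPrime.mem_or_mem h').elim hs hs, φ u, ?_⟩)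
    fun c hc => ⟨s * s, fun h' => (p.isPrime.mem_or_mem h').elim hs hs, ?_⟩
  · refine LinearMap.ext fun x => ?_
    rw [LinearMap.smul_apply, LinearMap.smul_apply, ← map_smul, ← hψ', map_smul, smul_eq_mul, smul_eq_mul, mul_comm]
  · rw [mul_comm, ← hψ]
    exact LinearMap.congr_fun hc u

section loc

variable (p : PrimeSpectrum B)

theorem isLocalizedModule_one_tmul :
    IsLocalizedModule p.asIdeal.primeCompl (TensorProduct.mk B (Localization.AtPrime p.asIdeal) X 1) :=
  (isLocalizedModule_iff_isBaseChange p.asIdeal.primeCompl (Localization.AtPrime p.asIdeal) _).2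
    (TensorProduct.isBaseChange B X (Localization.AtPrime p.asIdeal))

theorem exists_smul_eq_zero_of_one_tmul {x : X}
    (h : (1 : Localization.AtPrime p.asIdeal) ⊗ₜ[B] x = 0) : ∃ v ∉ p.asIdeal, v • x = 0 := by
  haveI := isLocalizedModule_one_tmul (X := X) p
  obtain ⟨c, hc⟩ := IsLocalizedModule.exists_of_eq (S := p.asIdeal.primeCompl)
    (f := TensorProduct.mk B (Localization.AtPrime p.asIdeal) X 1) (x₁ := x) (x₂ := 0) (h.trans (map_zero _).symm)
  exact ⟨c, c.2, hc.trans (smul_zero _)⟩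

/-- Freeness passes to the localisation. -/
theorem free1_localization (Q : PrimeSpectrum (Localization.AtPrime p.asIdeal))
    (h : Free1 B X (PrimeSpectrum.comap (algebraMap B _) Q)) :
    Free1 (Localization.AtPrime p.asIdeal) (Localization.AtPrime p.asIdeal ⊗[B] X) Q := by
  obtain ⟨u, s, hs, h1, h2⟩ := h
  refine ⟨1 ⊗ₜ u, algebraMap B _ s, hs, fun z => ?_, fun c hc => ?_⟩
  · induction z using TensorProduct.induction_on with
    | zero => exact ⟨0, by rw [smul_zero, zero_smul]⟩
    | tmul a x =>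
      obtain ⟨c, hc⟩ := h1 x
      refine ⟨a * algebraMap B _ c, ?_⟩
      rw [algebraMap_smul, ← TensorProduct.tmul_smul, hc, mul_smul, algebraMap_smul, ← TensorProduct.tmul_smul,
        TensorProduct.smul_tmul', smul_eq_mul, mul_one]
    | add x y hx hy =>
      obtain ⟨a, ha⟩ := hx
      obtain ⟨b, hb⟩ := hy
      exact ⟨a + b, by rw [smul_add, ha, hb, add_smul]⟩
  · obtain ⟨⟨b, w⟩, hb⟩ := IsLocalization.surj p.asIdeal.primeCompl c
    have h3 : (1 : Localization.AtPrime p.asIdeal) ⊗ₜ[B] (b • u) = 0 := by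
      rw [TensorProduct.tmul_smul, ← algebraMap_smul (Localization.AtPrime p.asIdeal), ← hb, mul_comm, mul_smul, hc,
        smul_zero]
    obtain ⟨v, hv, hv0⟩ := exists_smul_eq_zero_of_one_tmul p h3
    have h4 : algebraMap B (Localization.AtPrime p.asIdeal) (s * (v * b)) = 0 := by
      rw [h2 _ (by rw [mul_smul, hv0]), map_zero]
    have hu1 := IsLocalization.map_units (Localization.AtPrime p.asIdeal) (⟨v, hv⟩ : p.asIdeal.primeCompl)
    have hu2 := IsLocalization.map_units (Localization.AtPrime p.asIdeal) w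
    rw [map_mul, map_mul, ← hb, show ∀ a b c d : Localization.AtPrime p.asIdeal, a * (b * (c * d)) = (b * d) * (a * c)
      from fun a b c d => by ring] at h4
    exact (IsUnit.mul_right_eq_zero (hu1.mul hu2)).1 h4

/-- Freeness of the localisation gives local freeness. -/
theorem free1_of_tensor_equiv [IsNoetherianRing B] [Module.Finite B X]
    (e : Localization.AtPrime p.asIdeal ⊗[B] X ≃ₗ[Localization.AtPrime p.asIdeal] Localization.AtPrime p.asIdeal) :
    Free1 B X p := by
  let S := Localization.AtPrime p.asIdeal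
  haveI := isLocalizedModule_one_tmul (X := X) p
  obtain ⟨⟨u, s⟩, hu⟩ := IsLocalizedModule.surj p.asIdeal.primeCompl (TensorProduct.mk B S X 1) (e.symm 1)
  change (s : B) • e.symm 1 = 1 ⊗ₜ[B] u at hu
  have heu : e (1 ⊗ₜ[B] u) = algebraMap B S s := by
    rw [← hu, ← algebraMap_smul S, map_smul, e.apply_symm_apply, smul_eq_mul, mul_one]
  refine free1_of_pointwise p u (fun x => ?_) fun c hc => ?_
  · obtain ⟨⟨a, w⟩, hw⟩ := IsLocalization.surj p.asIdeal.primeCompl (e (1 ⊗ₜ[B] x))
    have h0 : (1 : S) ⊗ₜ[B] (((w : B) * s) • x - a • u) = 0 := e.injective (by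
      rw [map_zero, TensorProduct.tmul_sub, TensorProduct.tmul_smul, TensorProduct.tmul_smul,
        ← algebraMap_smul S, ← algebraMap_smul S a, map_sub, map_smul, map_smul, heu, smul_eq_mul, smul_eq_mul, map_mul,
        sub_eq_zero, ← hw]
      ring)
    obtain ⟨v, hv, hv0⟩ := exists_smul_eq_zero_of_one_tmul p h0
    refine ⟨v * (w * s), fun h => (p.isPrime.mem_or_mem h).elim hv fun h => (p.isPrime.mem_or_mem h).elim w.2 s.2,
      v * a, ?_⟩
    rw [smul_sub, sub_eq_zero] at hv0
    rw [mul_smul, hv0, mul_smul]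
  · have h0 : algebraMap B S (c * s) = 0 := by
      rw [map_mul, ← heu, ← smul_eq_mul, ← map_smul, algebraMap_smul, ← TensorProduct.tmul_smul, hc,
        TensorProduct.tmul_zero, map_zero]
    obtain ⟨m, hm⟩ := (IsLocalization.map_eq_zero_iff p.asIdeal.primeCompl S _).1 h0
    exact ⟨m * s, fun h => (p.isPrime.mem_or_mem h).elim m.2 s.2, by rw [mul_assoc, mul_comm (s : B)]; exact hm⟩

end loc

/-- A prime properly below another punctured prime lies below one containing a given element. -/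
theorem exists_prime_above [IsLocalRing B] [IsNoetherianRing B] {t : B} (ht : t ∈ maximalIdeal B)
    {q p : PrimeSpectrum B} (hqp : q.asIdeal < p.asIdeal) (hp : ¬ maximalIdeal B ≤ p.asIdeal) :
    ∃ q' : PrimeSpectrum B, q ≤ q' ∧ t ∈ q'.asIdeal ∧ ¬ maximalIdeal B ≤ q'.asIdeal := by
  by_contra! H
  let π := Ideal.Quotient.mk q.asIdeal
  haveI : Nontrivial (B ⧸ q.asIdeal) := Ideal.Quotient.nontrivial_iff.2 q.isPrime.ne_top
  haveI : IsLocalRing (B ⧸ q.asIdeal) := IsLocalRing.of_surjective' π Ideal.Quotient.mk_surjective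
  haveI : IsDomain (B ⧸ q.asIdeal) := Ideal.Quotient.isDomain _
  have hm : (maximalIdeal (B ⧸ q.asIdeal)).comap π = maximalIdeal B :=
    IsLocalRing.eq_maximalIdeal (Ideal.comap_isMaximal_of_surjective π Ideal.Quotient.mk_surjective)
  have hmin : maximalIdeal (B ⧸ q.asIdeal) ∈ (Ideal.span {π t}).minimalPrimes := by
    refine ⟨⟨inferInstance, (Ideal.span_singleton_le_iff_mem _).2 (show π t ∈ _ from hm.ge ht)⟩, fun P hP _ => ?_⟩
    haveI := hP.1
    have h2 := H ⟨P.comap π, Ideal.IsPrime.comap π⟩ (fun a ha => by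
      show π a ∈ P
      rw [Ideal.Quotient.eq_zero_iff_mem.2 ha]
      exact P.zero_mem) (hP.2 (Ideal.mem_span_singleton_self _))
    intro z hz
    obtain ⟨a, rfl⟩ := Ideal.Quotient.mk_surjective z
    exact h2 (hm.le hz)
  have h1 := Ideal.height_le_one_of_isPrincipal_of_mem_minimalPrimes_of_isLocalRing _ hmin
  let p' := p.asIdeal.map π
  haveI : p'.IsPrime := Ideal.map_isPrime_of_surjective Ideal.Quotient.mk_surjective (by rw [Ideal.mk_ker]; exact hqp.le)
  have hc : p'.comap π = p.asIdeal := by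
    rw [Ideal.comap_map_of_surjective _ Ideal.Quotient.mk_surjective, ← RingHom.ker_eq_comap_bot, Ideal.mk_ker,
      sup_eq_left.2 hqp.le]
  have h0 : (⊥ : Ideal (B ⧸ q.asIdeal)) < p' := bot_lt_iff_ne_bot.2 fun h => hqp.not_ge (by
    rw [← hc, h, ← RingHom.ker_eq_comap_bot, Ideal.mk_ker])
  have h2 : p' < maximalIdeal (B ⧸ q.asIdeal) := lt_of_le_of_ne (IsLocalRing.le_maximalIdeal (Ideal.IsPrime.ne_top ‹_›))
    fun h => hp (by rw [← hc, h, hm])
  have h3 : (0 : ℕ∞) < p'.height := zero_le.trans_lt (Ideal.height_strict_mono_of_isPrime_of_isPrime h0)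
  have h4 := (Ideal.height_strict_mono_of_isPrime_of_isPrime h2).trans_le h1
  exact absurd (ENat.lt_one_iff_eq_zero.1 h4) h3.ne'

end Groth.Agent.CIPic27
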