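import Groth.Agent.Lib.CIPic27.System

/-!
# The limit of a compatible system
-/

set_option autoImplicit false
set_option linter.style.haveILetI false

universe u

open IsLocalRing Pointwise

noncomputable section

namespace Groth.Agent.CIPic27.Sys

open Groth.Agent.LocCohLib Groth.Agent.InjHullLib

variable {B : Type u} [CommRing B] [IsLocalRing B] [IsNoetherianRing B] {t : B} (sy : Sys B t)

/-- Elements liftable `e` steps up. -/
def I : ℕ → ∀ k, Submodule B (sy.M k)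
  | 0, _ => ⊤
  | e + 1, k => (I e (k + 1)).map (sy.ρ k)

theorem I_succ_le : ∀ e k, sy.I (e + 1) k ≤ sy.I e k
  | 0, _ => le_top
  | e + 1, k => Submodule.map_mono (I_succ_le e (k + 1))

theorem I_antitone (k : ℕ) : Antitone fun e => sy.I e k := antitone_nat_of_succ_le fun e => sy.I_succ_le e k

theorem smul_mem_I_succ : ∀ e k {y : sy.M k}, y ∈ sy.I e k → t • y ∈ sy.I (e + 1) k
  | 0, k, y, _ => ⟨sy.τ k y, trivial, sy.ρ_τ k y⟩
  | e + 1, k, _, ⟨z, hz, rfl⟩ => ⟨t • z, smul_mem_I_succ e (k + 1) hz, map_smul _ _ _⟩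

variable {n₀ : ℕ} (hn₀ : ∀ n, n₀ ≤ n → ∀ x : sy.M (n + 1), ∃ y z, x = sy.τ n y + sy.ρ (n + 1) z)
include hn₀

theorem exists_decomp : ∀ d k, n₀ ≤ k + d → ∀ y ∈ sy.I (d + 1) k,
    ∃ a ∈ sy.I d k, ∃ b ∈ sy.I (d + 2) k, y = t • a + b
  | 0, k, hk, _, ⟨x, _, rfl⟩ => by
    obtain ⟨w, z, rfl⟩ := hn₀ k hk x
    exact ⟨w, trivial, _, ⟨_, ⟨z, trivial, rfl⟩, rfl⟩, by rw [map_add, ρ_τ]⟩
  | d + 1, k, hk, _, ⟨x, hx, rfl⟩ => by
    obtain ⟨a, ha, b, hb, rfl⟩ := exists_decomp d (k + 1) (by omega) x hx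
    exact ⟨_, ⟨a, ha, rfl⟩, _, ⟨b, hb, rfl⟩, by rw [map_add, map_smul]⟩

theorem exists_decomp_pow : ∀ i d k, n₀ ≤ k + d → ∀ y ∈ sy.I (d + i) k,
    ∃ a ∈ sy.I d k, ∃ b ∈ sy.I (d + i + 1) k, y = t ^ i • a + b
  | 0, d, k, _, y, hy => ⟨y, hy, 0, zero_mem _, by rw [pow_zero, one_smul, add_zero]⟩
  | i + 1, d, k, hk, y, hy => by
    obtain ⟨a, ha, b, hb, rfl⟩ := sy.exists_decomp hn₀ (d + i) k (by omega) y hy
    obtain ⟨a', ha', b', hb', rfl⟩ := exists_decomp_pow i d k hk a ha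
    exact ⟨a', ha', t • b' + b, add_mem (sy.smul_mem_I_succ _ _ hb') hb,
      by rw [smul_add, ← mul_smul, ← pow_succ', add_assoc]⟩

theorem I_le_succ {e k : ℕ} (h : n₀ + k + 1 ≤ e) : sy.I e k ≤ sy.I (e + 1) k := fun y hy => by
  obtain ⟨d, rfl⟩ : ∃ d, e = d + (k + 1) := ⟨e - (k + 1), by omega⟩
  obtain ⟨a, ha, b, hb, rfl⟩ := sy.exists_decomp_pow hn₀ (k + 1) d k (by omega) y hy
  rw [sy.kill, zero_add]
  exact hb

theorem I_stable_le {k e : ℕ} : sy.I (n₀ + k + 1) k ≤ sy.I e k := by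
  induction e with
  | zero => exact le_top
  | succ e ih =>
    rcases le_or_gt (n₀ + k + 1) e with h | h
    · exact ih.trans (sy.I_le_succ hn₀ h)
    · exact sy.I_antitone k (by omega)

theorem exists_up {k : ℕ} {y : sy.M k} (hy : y ∈ sy.I (n₀ + k + 1) k) :
    ∃ z ∈ sy.I (n₀ + (k + 1) + 1) (k + 1), sy.ρ k z = y :=
  sy.I_stable_le hn₀ (e := n₀ + (k + 1) + 1 + 1) hy

variable (hreg : ∀ x : B, t * x = 0 → x = 0)
include hreg

/-- The limit of a system with eventually bounded cokernels. -/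
theorem exists_limit [IsAdicComplete (Ideal.span {t}) B] :
    ∃ (X : ModuleCat.{u} B) (_ : Module.Finite B X) (φ : X →ₗ[B] sy.M 0),
      (∀ x : X, t • x = 0 → x = 0) ∧ (∀ x : X, φ x = 0 → ∃ y : X, x = t • y) ∧
      LocCoh.IsPowerTorsion (maximalIdeal B) (sy.M 0 ⧸ LinearMap.range φ) := by
  classical
  let L : Submodule B (∀ k, sy.M k) :=
    { carrier := {x | ∀ k, sy.ρ k (x (k + 1)) = x k}
      add_mem' := fun {x y} hx hy k => by
        rw [Pi.add_apply, Pi.add_apply, map_add, hx k, hy k]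
      zero_mem' := fun k => map_zero _
      smul_mem' := fun c x hx k => by rw [Pi.smul_apply, Pi.smul_apply, map_smul, hx k] }
  let φ : L →ₗ[B] sy.M 0 := LinearMap.proj 0 ∘ₗ L.subtype
  have hτinj := sy.τ_injective hreg
  have hL : ∀ (x : L) k, sy.ρ k ((x : ∀ k, sy.M k) (k + 1)) = (x : ∀ k, sy.M k) k := fun x => x.2
  have hI : ∀ (x : L) e k, (x : ∀ k, sy.M k) k ∈ sy.I e k := by
    intro x e
    induction e with
    | zero => exact fun _ => trivial
    | succ e ih => exact fun k => ⟨_, ih (k + 1), hL x k⟩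
  have hlift : ∀ y ∈ sy.I (n₀ + 0 + 1) 0, ∃ x : L, φ x = y := by
    intro y hy
    let f : ∀ k, {z : sy.M k // z ∈ sy.I (n₀ + k + 1) k} := fun k => Nat.recOn
      (motive := fun k => {z : sy.M k // z ∈ sy.I (n₀ + k + 1) k}) k ⟨y, hy⟩
      (fun k z => ⟨(sy.exists_up hn₀ z.2).choose, (sy.exists_up hn₀ z.2).choose_spec.1⟩)
    exact ⟨⟨fun k => (f k).1, fun k => (sy.exists_up hn₀ (f k).2).choose_spec.2⟩, rfl⟩
  have htf : ∀ x : L, t • x = 0 → x = 0 := fun x hx => Subtype.ext (funext fun k => by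
    refine (hτinj k ?_).trans rfl
    show sy.τ k ((x : ∀ k, sy.M k) k) = sy.τ k 0
    rw [← hL x k, τ_ρ, map_zero]
    exact congrFun (congrArg Subtype.val hx) (k + 1))
  have hker : ∀ x : L, φ x = 0 → ∃ y : L, x = t • y := fun x hx => by
    have hπ : ∀ k, sy.π k ((x : ∀ k, sy.M k) k) = 0 := by
      intro k
      induction k with
      | zero => exact hx
      | succ k ih =>
        show sy.π k (sy.ρ k _) = 0
        rw [hL x k, ih]
    choose y hy using fun k => sy.exists_τ_eq hreg k _ (hπ (k + 1))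
    have hyL : ∀ k, sy.ρ k (y (k + 1)) = y k := fun k => hτinj k (by
      rw [τ_ρ, ← ρ_τ, hy, hy, hL x (k + 1)])
    refine ⟨⟨y, hyL⟩, Subtype.ext (funext fun k => ?_)⟩
    show (x : ∀ k, sy.M k) k = t • y k
    rw [← hL x k, ← hy k, ρ_τ]
  haveI : IsHausdorff (Ideal.span {t}) L := ⟨fun x hx => Subtype.ext (funext fun k => by
    have h := hx (k + 1)
    rw [SModEq.zero, Ideal.span_singleton_pow, Submodule.ideal_span_singleton_smul] at h
    obtain ⟨z, -, rfl⟩ := (Submodule.mem_smul_pointwise_iff_exists _ _ _).1 h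
    exact sy.kill k _)⟩
  haveI := sy.finite 0
  obtain ⟨r, g, hg⟩ := Submodule.fg_iff_exists_fin_generating_family.1 (IsNoetherian.noetherian (sy.I (n₀ + 0 + 1) 0))
  choose G hG using fun i => hlift (g i) (hg ▸ Submodule.subset_span ⟨i, rfl⟩)
  let f : (Fin r → B) →ₗ[B] L := Fintype.linearCombination B G
  haveI : IsPrecomplete (Ideal.span {t}) (Fin r → B) := (Compl.isAdicComplete_of_finite _ _).toIsPrecomplete
  have hf : Function.Surjective f := surjective_of_mkQ_comp_surjective (I := Ideal.span {t}) fun q => by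
    obtain ⟨x, rfl⟩ := Submodule.Quotient.mk_surjective _ q
    obtain ⟨c, hc⟩ := (Submodule.mem_span_range_iff_exists_fun B).1 (hg.ge (hI x _ 0))
    obtain ⟨y, hy⟩ := hker (x - f c) (by
      rw [map_sub, show φ x = (x : ∀ k, sy.M k) 0 from rfl, ← hc, Fintype.linearCombination_apply, map_sum, sub_eq_zero]
      exact Finset.sum_congr rfl fun i _ => by rw [map_smul, hG])
    refine ⟨c, ?_⟩
    rw [LinearMap.comp_apply, Submodule.mkQ_apply, eq_comm, Submodule.Quotient.eq, hy]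
    exact Submodule.smul_mem_smul (Ideal.mem_span_singleton_self t) trivial
  refine ⟨ModuleCat.of B L, Module.Finite.of_surjective f hf, φ, htf, hker, ?_⟩
  have hP : ∀ e k, LocCoh.IsPowerTorsion (maximalIdeal B) (sy.M k ⧸ sy.I e k) := by
    intro e
    induction e with
    | zero => exact fun k x => ⟨0, fun r _ => (Submodule.Quotient.subsingleton_iff.2 rfl).elim _ _⟩
    | succ e ih =>
      intro k
      have h := isPowerTorsion_range_comp (f := (sy.I e (k + 1)).subtype) (g := sy.ρ k)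
        (by rw [Submodule.range_subtype]; exact ih (k + 1)) (sy.coker k)
      rw [LinearMap.range_comp, Submodule.range_subtype] at h
      exact h
  intro q
  obtain ⟨y, rfl⟩ := Submodule.Quotient.mk_surjective _ q
  obtain ⟨N, hN⟩ := hP (n₀ + 0 + 1) 0 (Submodule.Quotient.mk y)
  exact ⟨N, fun r hr => (Submodule.Quotient.mk_smul _ r y).symm.trans ((Submodule.Quotient.mk_eq_zero _).2
    (hlift _ ((Submodule.Quotient.mk_eq_zero _).1 ((Submodule.Quotient.mk_smul _ r y).trans (hN r hr)))))⟩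

end Groth.Agent.CIPic27.Sys
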