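import Groth.Agent.Lib.CIPic27.Lift
import Groth.Agent.Lib.CIPic27.Limit
import Groth.Agent.Lib.CIPic27.LocalTools
import Groth.Agent.Lib.Goren.Basic
import Mathlib.Algebra.Module.Torsion.Basic

/-!
# Descent of triviality of the punctured Picard group to a hyperplane section
-/

set_option autoImplicit false
set_option linter.style.haveILetI false

universe u

open IsLocalRing TensorProduct

noncomputable section

namespace Groth.Agent.CIPic27

open Groth.Agent.LocCohLib Groth.Agent.InjHullLib Groth.Agent.ParaGr27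

theorem good_iff_of_surjective {A C : Type u} [CommRing A] [CommRing C] [IsLocalRing A] [IsLocalRing C]
    [IsNoetherianRing A] [IsNoetherianRing C] [Algebra A C] (hs : Function.Surjective (algebraMap A C)) {X : Type u}
    [AddCommGroup X] [Module A X] [Module C X] [IsScalarTower A C X] [Module.Finite A X] :
    Good A X ↔ Good C X := by
  haveI : Module.Finite C X := Module.Finite.of_restrictScalars_finite A C X
  have key : ∀ {R : Type u} [CommRing R] [IsLocalRing R] [IsNoetherianRing R] [Module R X] [Module.Finite R X],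
      Good R X ↔ (2 : ℕ∞) ≤ LocCoh.depth R X := fun {R} _ _ _ _ _ =>
    ⟨fun h => (van_iff_natCast_le_depth 2).1 fun i hi => by interval_cases i <;> [exact h.1; exact h.2],
      fun h => ⟨(van_iff_natCast_le_depth 2).2 h 0 (by omega), (van_iff_natCast_le_depth 2).2 h 1 (by omega)⟩⟩
  rw [key, key, FlatDepth.depth_eq_of_surjective (A := A) (B := C) (M := X) hs]

variable {B : Type u} [CommRing B] [IsLocalRing B]

/-- One level of the system. -/
structure Lev (t : B) (n : ℕ) where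
  /-- The module. -/
  M : ModuleCat.{u} B
  finite : Module.Finite B M
  kill : ∀ x : M, t ^ (n + 1) • x = 0
  good : Good B M
  free : ∀ (p : PrimeSpectrum B), ¬ maximalIdeal B ≤ p.asIdeal → t ∈ p.asIdeal →
    ∃ (u : M) (s : B), s ∉ p.asIdeal ∧ (∀ x, ∃ c : B, s • x = c • u) ∧
      ∀ c : B, c • u = 0 → s * c ∈ Ideal.span {t ^ (n + 1)}

theorem isLocalRing_quotient_pow {t : B} (ht : t ∈ maximalIdeal B) (n : ℕ) :
    IsLocalRing (B ⧸ Ideal.span {t ^ (n + 1)}) :=
  haveI := Ideal.Quotient.nontrivial_iff.2 fun h : Ideal.span {t ^ (n + 1)} = ⊤ =>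
    (maximalIdeal.isMaximal B).ne_top (top_le_iff.1 (h ▸ (Ideal.span_singleton_le_iff_mem _).2
      (Ideal.pow_mem_of_mem _ ht _ n.succ_pos)))
  IsLocalRing.of_surjective' _ Ideal.Quotient.mk_surjective

theorem freeOff_quotient_iff (t : B) (n : ℕ) [IsLocalRing (B ⧸ Ideal.span {t ^ (n + 1)})] {M : Type u} [AddCommGroup M]
    [Module B M] [Module (B ⧸ Ideal.span {t ^ (n + 1)}) M] [IsScalarTower B (B ⧸ Ideal.span {t ^ (n + 1)}) M] :
    FreeOff (B ⧸ Ideal.span {t ^ (n + 1)}) M ↔ ∀ p : PrimeSpectrum B, ¬ maximalIdeal B ≤ p.asIdeal → t ∈ p.asIdeal →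
      ∃ (u : M) (s : B), s ∉ p.asIdeal ∧ (∀ x, ∃ c : B, s • x = c • u) ∧
        ∀ c : B, c • u = 0 → s * c ∈ Ideal.span {t ^ (n + 1)} := by
  let S := B ⧸ Ideal.span {t ^ (n + 1)}
  let π : B →+* S := Ideal.Quotient.mk _
  have hm : (maximalIdeal S).comap π = maximalIdeal B :=
    IsLocalRing.eq_maximalIdeal (Ideal.comap_isMaximal_of_surjective π Ideal.Quotient.mk_surjective)
  have hsm : ∀ (a : B) (x : M), π a • x = a • x := fun a x => IsScalarTower.algebraMap_smul S a x
  constructor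
  · intro h p hp ht
    let P := p.asIdeal.map π
    have hle : RingHom.ker π ≤ p.asIdeal := by
      rw [Ideal.mk_ker]
      exact (Ideal.span_singleton_le_iff_mem _).2 (Ideal.pow_mem_of_mem _ ht _ n.succ_pos)
    haveI : P.IsPrime := Ideal.map_isPrime_of_surjective Ideal.Quotient.mk_surjective hle
    have hc : P.comap π = p.asIdeal := by
      rw [Ideal.comap_map_of_surjective _ Ideal.Quotient.mk_surjective, ← RingHom.ker_eq_comap_bot, sup_eq_left.2 hle]
    obtain ⟨u, s', hs', h1, h2⟩ := h ⟨P, inferInstance⟩ fun hP => hp (by rw [← hm, ← hc]; exact Ideal.comap_mono hP)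
    obtain ⟨s, rfl⟩ := Ideal.Quotient.mk_surjective s'
    refine ⟨u, s, fun hsp => hs' (Ideal.mem_map_of_mem π hsp), fun x => ?_, fun c hc' => ?_⟩
    · obtain ⟨c', hc'⟩ := h1 x
      obtain ⟨c, rfl⟩ := Ideal.Quotient.mk_surjective c'
      exact ⟨c, by rw [← hsm, ← hsm]; exact hc'⟩
    · have h3 := h2 (π c) (by rw [hsm]; exact hc')
      rw [← map_mul] at h3
      exact Ideal.Quotient.eq_zero_iff_mem.1 h3
  · intro h P hP
    have htp : t ∈ P.asIdeal.comap π := P.isPrime.mem_of_pow_mem (n + 1) (by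
      rw [← map_pow, Ideal.Quotient.eq_zero_iff_mem.2 (Ideal.mem_span_singleton_self _)]
      exact P.asIdeal.zero_mem)
    obtain ⟨u, s, hs, h1, h2⟩ := h ⟨P.asIdeal.comap π, inferInstance⟩ (fun hp => hP fun z hz => by
      obtain ⟨a, rfl⟩ := Ideal.Quotient.mk_surjective z
      exact hp (hm.le hz)) htp
    refine ⟨u, π s, hs, fun x => ?_, fun c' hc' => ?_⟩
    · obtain ⟨c, hc⟩ := h1 x
      exact ⟨π c, by rw [hsm, hsm]; exact hc⟩
    · obtain ⟨c, rfl⟩ := Ideal.Quotient.mk_surjective c'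
      rw [← map_mul, Ideal.Quotient.eq_zero_iff_mem]
      exact h2 c (by rw [← hsm]; exact hc')

variable [IsNoetherianRing B]

theorem natCast_le_depth_quotient {f : B} (hf : f ∈ maximalIdeal B) (hreg : ∀ x : B, f * x = 0 → x = 0)
    [IsLocalRing (B ⧸ Ideal.span {f})] {k : ℕ} (hd : ((k + 1 : ℕ) : ℕ∞) ≤ LocCoh.depth B B) :
    (k : ℕ∞) ≤ LocCoh.depth (B ⧸ Ideal.span {f}) (B ⧸ Ideal.span {f}) := by
  rw [← GorenLib.depth_quotient_add_one hf
    (fun a b h => sub_eq_zero.1 (hreg _ (by rw [mul_sub, sub_eq_zero]; exact h))), Nat.cast_succ] at hd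
  exact (ENat.addLECancellable_of_ne_top ENat.one_ne_top).add_le_add_iff_right.1 hd

variable {t : B} (ht : t ∈ maximalIdeal B) (hreg : ∀ x : B, t * x = 0 → x = 0)
  (hd : (5 : ℕ∞) ≤ LocCoh.depth B B)

omit [IsLocalRing B] [IsNoetherianRing B] in
include hreg in
theorem reg_pow : ∀ (n : ℕ) (x : B), t ^ n * x = 0 → x = 0
  | 0, x, h => by rwa [pow_zero, one_mul] at h
  | n + 1, x, h => reg_pow n x (hreg _ (by rw [← mul_assoc, ← pow_succ']; exact h))

include ht hreg hd in
theorem exists_next (n : ℕ) (L : Lev t n) :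
    ∃ (L' : Lev t (n + 1)) (ρ : L'.M →ₗ[B] L.M),
      LocCoh.IsPowerTorsion (maximalIdeal B) (L.M ⧸ LinearMap.range ρ) ∧ ∀ x, ρ x = 0 → t • x = 0 := by
  let S := B ⧸ Ideal.span {t ^ (n + 1 + 1)}
  let S₀ := B ⧸ Ideal.span {t ^ (n + 1)}
  haveI : IsLocalRing S := isLocalRing_quotient_pow ht (n + 1)
  haveI : IsLocalRing S₀ := isLocalRing_quotient_pow ht n
  have hle : Ideal.span {t ^ (n + 1 + 1)} ≤ Ideal.span {t ^ (n + 1)} :=
    (Ideal.span_singleton_le_iff_mem _).2 (Ideal.mem_span_singleton'.2 ⟨t, (pow_succ' t (n + 1)).symm⟩)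
  let q : S →+* S₀ := Ideal.Quotient.factor hle
  have hq : Function.Surjective q := Ideal.Quotient.factor_surjective hle
  have hker : ∀ z ∈ RingHom.ker q, ∃ b : B, z = Ideal.Quotient.mk _ (b * t ^ (n + 1)) := fun z hz => by
    obtain ⟨a, rfl⟩ := Ideal.Quotient.mk_surjective z
    obtain ⟨b, hb⟩ := Ideal.mem_span_singleton'.1 (Ideal.Quotient.eq_zero_iff_mem.1 (RingHom.mem_ker.1 hz))
    exact ⟨b, by rw [hb]⟩
  have hsq : RingHom.ker q * RingHom.ker q = ⊥ := eq_bot_iff.2 (Ideal.mul_le.2 fun a ha c hc => by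
    obtain ⟨b, rfl⟩ := hker a ha
    obtain ⟨b', rfl⟩ := hker c hc
    rw [Ideal.mem_bot, ← map_mul, Ideal.Quotient.eq_zero_iff_mem, Ideal.mem_span_singleton']
    exact ⟨b * b' * t ^ n, by ring⟩)
  have hdS : (4 : ℕ∞) ≤ LocCoh.depth S S :=
    natCast_le_depth_quotient (k := 4) (Ideal.pow_mem_of_mem _ ht _ (Nat.succ_pos _)) (reg_pow hreg _) hd
  have hdS₀ : (4 : ℕ∞) ≤ LocCoh.depth S₀ S₀ :=
    natCast_le_depth_quotient (k := 4) (Ideal.pow_mem_of_mem _ ht _ n.succ_pos) (reg_pow hreg _) hd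
  -- the module over `S₀`
  have htors : Module.IsTorsionBySet B L.M (Ideal.span {t ^ (n + 1)} : Ideal B) :=
    (Module.isTorsionBySet_span_singleton_iff _).2 L.kill
  letI : Module S₀ L.M := htors.module
  haveI : IsScalarTower B S₀ L.M := htors.isScalarTower
  haveI := L.finite
  haveI : Module.Finite S₀ L.M := Module.Finite.of_restrictScalars_finite B S₀ L.M
  have hN : FreeOff S₀ L.M := (freeOff_quotient_iff t n).2 L.free
  have hG : Good S₀ L.M := (good_iff_of_surjective (A := B) (C := S₀) Ideal.Quotient.mk_surjective).1 L.good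
  obtain ⟨M, _, _, _, ρ, hfree, hgood, hlin, hcok, hkerρ⟩ := exists_lift_core q hq hsq
    ((van_iff_natCast_le_depth 4).2 hdS 3 (by omega)) ((van_iff_natCast_le_depth 4).2 hdS₀ 2 (by omega))
    (le_trans (by norm_num) hdS) L.M hN hG
  letI : Module B M := Module.compHom M (Ideal.Quotient.mk (Ideal.span {t ^ (n + 1 + 1)}))
  haveI : IsScalarTower B S M := IsScalarTower.of_algebraMap_smul fun _ _ => rfl
  haveI : Module.Finite B S := Module.Finite.of_surjective (Algebra.linearMap B S) Ideal.Quotient.mk_surjective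
  haveI : Module.Finite B M := Module.Finite.trans (R := B) S M
  have hsm : ∀ (a : B) (x : M), a • x = (Ideal.Quotient.mk _ a : S) • x := fun _ _ => rfl
  let L' : Lev t (n + 1) :=
    { M := ModuleCat.of B M
      finite := inferInstance
      kill := fun x => by
        show t ^ (n + 1 + 1) • (x : M) = 0
        rw [hsm, Ideal.Quotient.eq_zero_iff_mem.2 (Ideal.mem_span_singleton_self _), zero_smul]
      good := (good_iff_of_surjective (A := B) (C := S) Ideal.Quotient.mk_surjective).2 hgood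
      free := (freeOff_quotient_iff t (n + 1)).1 hfree }
  let ρ' : L'.M →ₗ[B] L.M :=
    { toFun := ρ
      map_add' := map_add ρ
      map_smul' := fun a x => by
        show ρ ((Ideal.Quotient.mk _ a : S) • (x : M)) = a • ρ x
        rw [hlin]
        exact IsScalarTower.algebraMap_smul S₀ a (ρ x) }
  have hm : ∀ k (a : B), a ∈ maximalIdeal B ^ k → Ideal.Quotient.mk (Ideal.span {t ^ (n + 1 + 1)}) a ∈ maximalIdeal S ^ k :=
    fun k a ha => by
      have h1 : (maximalIdeal B).map (Ideal.Quotient.mk (Ideal.span {t ^ (n + 1 + 1)})) ≤ maximalIdeal S := by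
        rw [Ideal.map_le_iff_le_comap]
        exact (IsLocalRing.eq_maximalIdeal (Ideal.comap_isMaximal_of_surjective (K := maximalIdeal S) _
          Ideal.Quotient.mk_surjective)).ge
      exact Ideal.pow_right_mono h1 k ((Ideal.map_pow _ _ _).le (Ideal.mem_map_of_mem _ ha))
  refine ⟨L', ρ', fun y => ?_, fun x hx => ?_⟩
  · obtain ⟨y, rfl⟩ := Submodule.Quotient.mk_surjective _ y
    obtain ⟨k, hk⟩ := hcok y
    refine ⟨k, fun a ha => ?_⟩
    obtain ⟨z, hz⟩ := hk _ (hm k a ha)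
    rw [← Submodule.Quotient.mk_smul, Submodule.Quotient.mk_eq_zero]
    exact ⟨z, hz.trans (IsScalarTower.algebraMap_smul S₀ a y)⟩
  · obtain ⟨k, hk⟩ := hkerρ x hx
    refine eq_zero_of_pow_smul L'.good.powTors_eq (n := k) fun a ha => ?_
    rw [smul_comm]
    show t • (Ideal.Quotient.mk _ a : S) • (x : M) = 0
    refine Submodule.smul_induction_on (hk _ (hm k a ha)) (fun c hc z _ => ?_) fun u v hu hv => by
      rw [smul_add, hu, hv, add_zero]
    obtain ⟨b, rfl⟩ := hker c hc
    rw [hsm, ← mul_smul, ← map_mul, Ideal.Quotient.eq_zero_iff_mem.2 (Ideal.mem_span_singleton'.2 ⟨b, by ring⟩),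
      zero_smul]

include ht hreg hd in
theorem exists_sys (L₀ : Lev t 0) : ∃ sy : Sys B t, sy.M 0 = L₀.M := by
  choose L' ρ hρ hρ' using exists_next ht hreg hd
  let Ls : ∀ n, Lev t n := fun n => Nat.rec (motive := fun n => Lev t n) L₀ (fun n L => L' n L) n
  exact ⟨{ M := fun n => (Ls n).M, ρ := fun n => ρ n (Ls n), finite := fun n => (Ls n).finite,
           kill := fun n => (Ls n).kill, good := fun n => (Ls n).good, free := fun n => (Ls n).free,
           coker := fun n => hρ n (Ls n), ker := fun n => hρ' n (Ls n) }, rfl⟩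

/-- A lift to `B` of a module over `B/(t)`. -/
theorem exists_model_limit [IsAdicComplete (Ideal.span {t}) B] (L₀ : Lev t 0)
    (hH : IsFiniteLength B (LocCoh.H (maximalIdeal B) 2 L₀.M)) (ht : t ∈ maximalIdeal B)
    (hreg : ∀ x : B, t * x = 0 → x = 0) (hd : (5 : ℕ∞) ≤ LocCoh.depth B B) :
    ∃ (X : ModuleCat.{u} B) (_ : Module.Finite B X) (φ : X →ₗ[B] L₀.M),
      (∀ x : X, t • x = 0 → x = 0) ∧ (∀ x : X, φ x = 0 → ∃ y : X, x = t • y) ∧
      LocCoh.IsPowerTorsion (maximalIdeal B) (L₀.M ⧸ LinearMap.range φ) := by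
  obtain ⟨sy, hsy⟩ := exists_sys ht hreg hd L₀
  rw [← hsy] at hH ⊢
  obtain ⟨n₀, hn₀⟩ := sy.exists_bound hreg hH
  exact sy.exists_limit hn₀ hreg

end Groth.Agent.CIPic27
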