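import Groth.Agent.Lib.CIPic27.Lift
import Groth.Agent.Lib.CIPic27.LocalTools
import Groth.Agent.Lib.CIPic27.Step
import Groth.Prelude.Def_ParaF
import Mathlib.RingTheory.Flat.FaithfullyFlat.Algebra

/-!
# Transfer of triviality of punctured Picard groups
-/

set_option autoImplicit false
set_option linter.style.haveILetI false

universe u

open IsLocalRing TensorProduct AlgebraicGeometry CategoryTheory

noncomputable section

namespace Groth.Agent.CIPic27

open Groth.Agent.LocCohLib Groth.Agent.InjHullLib Groth.Agent.ParaGr27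

variable {A S : Type u} [CommRing A] [CommRing S] [Algebra A S]

theorem free1_baseChange {N : Type u} [AddCommGroup N] [Module A N] (Q : PrimeSpectrum S)
    (h : Free1 A N (PrimeSpectrum.comap (algebraMap A S) Q)) : Free1 S (S ⊗[A] N) Q := by
  obtain ⟨u, s, hs, h1, h2⟩ := h
  obtain ⟨ψ, hψ, hψ'⟩ := exists_func u s h1 h2
  refine ⟨1 ⊗ₜ u, algebraMap A S (s * s), fun h => ?_, fun z => ?_, fun c hc => ?_⟩
  · rw [map_mul] at h
    exact (Q.isPrime.mem_or_mem h).elim hs hs
  · induction z using TensorProduct.induction_on with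
    | zero => exact ⟨0, by rw [smul_zero, zero_smul]⟩
    | tmul a x =>
      refine ⟨a * algebraMap A S (ψ x), ?_⟩
      rw [algebraMap_smul, ← TensorProduct.tmul_smul, ← hψ', mul_smul, algebraMap_smul, ← TensorProduct.tmul_smul,
        TensorProduct.smul_tmul', smul_eq_mul, mul_one]
    | add x y hx hy =>
      obtain ⟨a, ha⟩ := hx
      obtain ⟨b, hb⟩ := hy
      exact ⟨a + b, by rw [smul_add, ha, hb, add_smul]⟩
  · let L : S ⊗[A] N →ₗ[S] S := LinearMap.liftBaseChange S (Algebra.linearMap A S ∘ₗ ψ)
    have h0 := congrArg L hc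
    rw [map_smul, map_zero, LinearMap.liftBaseChange_one_tmul, LinearMap.comp_apply, hψ, smul_eq_mul, mul_comm] at h0
    exact h0

variable [IsLocalRing A] [IsLocalRing S] [IsNoetherianRing A] [IsNoetherianRing S]

omit [IsNoetherianRing S] in
/-- A module which becomes free of rank one after a faithfully flat local extension is free of rank one. -/
theorem nonempty_equiv_of_tensor [Module.FaithfullyFlat A S] {M : Type u} [AddCommGroup M] [Module A M]
    (e : S ⊗[A] M ≃ₗ[S] S) : Nonempty (M ≃ₗ[A] A) := by
  obtain ⟨x, hx⟩ : ∃ x : M, IsUnit (e (1 ⊗ₜ[A] x)) := by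
    by_contra! H
    have hall : ∀ z : S ⊗[A] M, e z ∈ maximalIdeal S := fun z => by
      induction z using TensorProduct.induction_on with
      | zero => rw [map_zero]; exact zero_mem _
      | tmul a x =>
        rw [← mul_one a, ← smul_eq_mul, ← TensorProduct.smul_tmul', map_smul, smul_eq_mul]
        exact Ideal.mul_mem_left _ _ (H x)
      | add x y hx hy => rw [map_add]; exact add_mem hx hy
    exact (hall (e.symm 1)) (by rw [e.apply_symm_apply]; exact isUnit_one)
  let f : A →ₗ[A] M := LinearMap.toSpanSingleton A M x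
  let g : S ⊗[A] A →ₗ[A] S := (e.toLinearMap.restrictScalars A) ∘ₗ f.lTensor S
  have hf : ∀ z, g z = TensorProduct.rid A S z * e (1 ⊗ₜ x) := fun z => by
    induction z using TensorProduct.induction_on with
    | zero => rw [map_zero, map_zero, zero_mul]
    | tmul a b =>
      show e (a ⊗ₜ[A] (b • x)) = _
      rw [TensorProduct.tmul_smul, TensorProduct.rid_tmul, ← mul_one a, ← smul_eq_mul, ← TensorProduct.smul_tmul',
        ← algebraMap_smul S b, ← algebraMap_smul S b, map_smul, map_smul, smul_eq_mul, smul_eq_mul, smul_eq_mul, smul_eq_mul, mul_one,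
        mul_assoc]
    | add a b ha hb => rw [map_add, map_add, ha, hb, add_mul]
  have hb : Function.Bijective g := by
    obtain ⟨v, hv⟩ := hx
    have h : Function.Bijective fun z : S => z * e (1 ⊗ₜ x) := by rw [← hv]; exact v.mulRight_bijective
    have := h.comp (TensorProduct.rid A S).bijective
    convert this using 1
    exact funext hf
  have hbf : Function.Bijective (f.lTensor S) := (Function.Bijective.of_comp_iff' e.bijective _).1 hb
  exact ⟨(LinearEquiv.ofBijective f ⟨(Module.FaithfullyFlat.lTensor_injective_iff_injective A S f).1 hbf.1,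
    (Module.FaithfullyFlat.lTensor_surjective_iff_surjective A S f).1 hbf.2⟩).symm⟩

/-- Descent along a faithfully flat local homomorphism with primary closed fibre. -/
theorem ptm_of_faithfullyFlat [Module.FaithfullyFlat A S]
    (hprim : ∀ Q : PrimeSpectrum S, maximalIdeal A ≤ Q.asIdeal.comap (algebraMap A S) → maximalIdeal S ≤ Q.asIdeal)
    (hS : PTm S) : PTm A := by
  intro N _ _ _ hN
  have hX : FreeOff S (S ⊗[A] N) := fun Q hQ => free1_baseChange Q (hN _ fun h => hQ (hprim Q h))
  obtain ⟨e⟩ := hS (S ⊗[A] N) hX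
  exact nonempty_equiv_of_tensor
    ((LinearEquiv.ofBijective _ (homComparison_bijective A S (N := N))).trans ((LinearMap.liftBaseChangeEquiv S).trans e))

omit [Algebra A S] in
theorem ptm_of_ringEquiv (e : S ≃+* A) (hS : PTm S) : PTm A := by
  letI : Algebra A S := e.symm.toRingHom.toAlgebra
  have hb : Function.Bijective (algebraMap A S) := e.symm.bijective
  haveI : Module.Flat A S := Module.Flat.of_linearEquiv (LinearEquiv.ofBijective (Algebra.linearMap A S) hb).symm
  haveI : IsLocalHom (algebraMap A S) := ⟨fun a ha => by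
    have h := ha.map e.toRingHom
    rwa [show e.toRingHom (algebraMap A S a) = a from e.apply_symm_apply a] at h⟩
  haveI : Module.FaithfullyFlat A S := Module.FaithfullyFlat.of_flat_of_isLocalHom
  refine ptm_of_faithfullyFlat (fun Q hQ z hz => ?_) hS
  obtain ⟨a, rfl⟩ := hb.2 z
  exact hQ fun h => hz (h.map (algebraMap A S))

omit [IsLocalRing S] [IsNoetherianRing S] [Algebra A S] in
/-- From invertible sheaves to modules. -/
theorem ptm_of_picTrivial (hd : (2 : ℕ∞) ≤ LocCoh.depth A A)
    (h : ParaF.PicTrivial (↑(FEt.puncturedSpec A) : Scheme.{u})) : PTm A := by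
  intro N _ _ _ hN
  haveI : Module.Finite A (D A N) := finite_dual
  rw [← puncturedOpen_maximalIdeal] at h
  obtain ⟨i⟩ := h _ (isInvertible_of_freeOff (freeOff_dual hN))
  have hgA : Good A A := by
    have h := (van_iff_natCast_le_depth (A := A) (X := A) 2).2 hd
    exact ⟨h 0 (by omega), h 1 (by omega)⟩
  obtain ⟨ψ, hψ⟩ := exists_hom_of_punct_iso (P := D A N) (N := A) hgA
    (i ≪≫ (Scheme.Modules.restrictUnitIso _).symm ≪≫
      (Scheme.Modules.restrictFunctor _).mapIso (tildeSelf (R := CommRingCat.of A)).symm)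
  exact ⟨LinearEquiv.ofBijective ψ (bijective_of_isoOff (good_dual hd) hgA hψ)⟩

omit [IsLocalRing S] [IsNoetherianRing S] [Algebra A S] in
/-- From modules to invertible sheaves. -/
theorem picTrivial_of_ptm (h : PTm A) : ParaF.PicTrivial (↑(FEt.puncturedSpec A) : Scheme.{u}) := by
  rw [← puncturedOpen_maximalIdeal]
  intro L hL
  obtain ⟨N, _, hproj, ⟨eN⟩⟩ := PunctFree27.exists_model (maximalIdeal A) L (IsNoetherian.noetherian _)
    (M2.isFinLocFree_of_isInvertible hL)
  haveI : Module.Finite A N := inferInstance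
  have hfree : FreeOff A N := freeOff_of_invertible hproj (Twist.isInvertible_of_iso eN.symm hL)
  obtain ⟨e⟩ := h N hfree
  obtain ⟨i⟩ := nonempty_iso_of_dual_equiv (locData_of_freeOff hfree) e
  exact ⟨eN.symm ≪≫ i⟩

end Groth.Agent.CIPic27
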