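import Groth.Agent.Lib.CIPic27.Descend
import Groth.Agent.Lib.CIPic27.Transfer
import Groth.Agent.Lib.KoszShH13.TReg
import Groth.Agent.Lib.CohenAlg3.Exists
import Groth.Agent.Lib.CT6.Basic
import Groth.Agent.Lib.RegLoc.Quotient
import Groth.Agent.Lib.Compl.Dim
import Groth.Agent.Lib.PerfLCI4.Ring
import Groth.Agent.Lib.Goren.CMHeight27
import Groth.Agent.S9549

/-!
# Complete intersections of dimension at least four have trivial punctured Picard group
-/

set_option autoImplicit false
set_option linter.style.haveILetI false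

universe u

open IsLocalRing RingTheory.Sequence

noncomputable section

namespace Groth.Agent.CIPic27

variable {R : Type u} [CommRing R] [IsRegularLocalRing R] {rs : List R}

theorem ofList_le_maximalIdeal (hm : ∀ r ∈ rs, r ∈ maximalIdeal R) : Ideal.ofList rs ≤ maximalIdeal R :=
  Ideal.span_le.2 hm

theorem isLocalRing_quotient_ofList (hm : ∀ r ∈ rs, r ∈ maximalIdeal R) : IsLocalRing (R ⧸ Ideal.ofList rs) :=
  haveI := Ideal.Quotient.nontrivial_iff.2 fun h : Ideal.ofList rs = ⊤ =>
    (maximalIdeal.isMaximal R).ne_top (top_le_iff.1 (h ▸ ofList_le_maximalIdeal hm))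
  IsLocalRing.of_surjective' _ Ideal.Quotient.mk_surjective

/-- A quotient of a regular local ring by a regular sequence is Cohen–Macaulay. -/
theorem cm_quotient (hm : ∀ r ∈ rs, r ∈ maximalIdeal R) (hreg : IsWeaklyRegular R rs) :
    LocCoh.IsCohenMacaulayLocalRing (R ⧸ Ideal.ofList rs) := by
  haveI := isLocalRing_quotient_ofList hm
  refine @LocCoh.IsCohenMacaulayLocalRing.mk _ _ _ _ ?_
  have h0 : LocCoh.IsCohenMacaulayModule R R :=
    (DepthLib.isCohenMacaulayLocalRing_of_isRegularLocalRing (R := R)).supportDim_eq_depth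
  have h1 : LocCoh.IsCohenMacaulayModule R (R ⧸ Ideal.ofList rs) :=
    KoszShH13.isCohenMacaulayModule_congr (Submodule.quotEquivOfEq _ _ (by rw [smul_eq_mul, Ideal.mul_top]))
      (KoszShH13.isCohenMacaulayModule_quotient_ofList hreg hm h0)
  rw [← FlatDepth.depth_eq_of_surjective (A := R) (B := R ⧸ Ideal.ofList rs) (M := R ⧸ Ideal.ofList rs)
    Ideal.Quotient.mk_surjective, Module.supportDim_self_eq_ringKrullDim, ← Module.supportDim_quotient_eq_ringKrullDim]
  exact h1

/-- The dimension of a quotient by a regular sequence. -/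
theorem exists_dim (hm : ∀ r ∈ rs, r ∈ maximalIdeal R) (hreg : IsWeaklyRegular R rs) :
    ∃ d e : ℕ, ringKrullDim R = (d : WithBot ℕ∞) ∧ ringKrullDim (R ⧸ Ideal.ofList rs) = (e : WithBot ℕ∞) ∧
      e + rs.length = d := by
  haveI := isLocalRing_quotient_ofList hm
  haveI := cm_quotient hm hreg
  obtain ⟨e, he⟩ := DepthLib.exists_depth_eq_natCast (R := R ⧸ Ideal.ofList rs) (M := R ⧸ Ideal.ofList rs)
  have he' : ringKrullDim (R ⧸ Ideal.ofList rs) = (e : WithBot ℕ∞) := by
    rw [← Module.supportDim_self_eq_ringKrullDim, LocCoh.IsCohenMacaulayLocalRing.supportDim_eq_depth, he]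
    rfl
  have h := ringKrullDim_add_length_eq_ringKrullDim_of_isRegular rs
    ((IsLocalRing.isRegular_iff_isWeaklyRegular_of_subset_maximalIdeal hm).2 hreg)
  rw [he', ← IsRegularLocalRing.spanFinrank_maximalIdeal, ← Nat.cast_add] at h
  exact ⟨_, e, IsRegularLocalRing.spanFinrank_maximalIdeal.symm, he', by exact_mod_cast h⟩

theorem le_depth_of_le_dim {A : Type u} [CommRing A] [h : LocCoh.IsCohenMacaulayLocalRing A] {k : ℕ}
    (hk : (k : WithBot ℕ∞) ≤ ringKrullDim A) : (k : ℕ∞) ≤ LocCoh.depth A A := by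
  rw [← Module.supportDim_self_eq_ringKrullDim, h.supportDim_eq_depth] at hk
  exact WithBot.coe_le_coe.1 hk

/-- Primes maximal away from a hyperplane section have large height. -/
theorem le_height_of_maximal_away {B : Type u} [CommRing B] [LocCoh.IsCohenMacaulayLocalRing B] {t : B}
    (ht : t ∈ maximalIdeal B) {p : PrimeSpectrum B} (hp : ¬ maximalIdeal B ≤ p.asIdeal)
    (hq : ∀ q : PrimeSpectrum B, p ≤ q → t ∈ q.asIdeal → maximalIdeal B ≤ q.asIdeal) {k : ℕ}
    (hk : ((k + 1 : ℕ) : WithBot ℕ∞) ≤ ringKrullDim B) :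
    (k : WithBot ℕ∞) ≤ ringKrullDim (Localization.AtPrime p.asIdeal) := by
  rw [IsLocalization.AtPrime.ringKrullDim_eq_height p.asIdeal]
  let π := Ideal.Quotient.mk p.asIdeal
  haveI : Nontrivial (B ⧸ p.asIdeal) := Ideal.Quotient.nontrivial_iff.2 p.isPrime.ne_top
  haveI : IsLocalRing (B ⧸ p.asIdeal) := IsLocalRing.of_surjective' π Ideal.Quotient.mk_surjective
  have hm : (maximalIdeal (B ⧸ p.asIdeal)).comap π = maximalIdeal B :=
    IsLocalRing.eq_maximalIdeal (Ideal.comap_isMaximal_of_surjective π Ideal.Quotient.mk_surjective)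
  have hmin : maximalIdeal (B ⧸ p.asIdeal) ∈ (Ideal.span {π t}).minimalPrimes := by
    refine ⟨⟨inferInstance, (Ideal.span_singleton_le_iff_mem _).2 (show π t ∈ _ from hm.ge ht)⟩, fun P hP _ => ?_⟩
    haveI := hP.1
    have h2 := hq ⟨P.comap π, Ideal.IsPrime.comap π⟩ (fun a ha => by
      show π a ∈ P
      rw [Ideal.Quotient.eq_zero_iff_mem.2 ha]
      exact P.zero_mem) (hP.2 (Ideal.mem_span_singleton_self _))
    intro z hz
    obtain ⟨a, rfl⟩ := Ideal.Quotient.mk_surjective z
    exact h2 (hm.le hz)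
  have h1 := Ideal.height_le_one_of_isPrincipal_of_mem_minimalPrimes_of_isLocalRing _ hmin
  have h2 : ringKrullDim (B ⧸ p.asIdeal) ≤ 1 := by
    rw [← IsLocalRing.maximalIdeal_height_eq_ringKrullDim]
    exact WithBot.coe_le_coe.2 h1
  rw [GorenLib.ringKrullDim_eq_quotient_add_height p.asIdeal p.isPrime.ne_top] at hk
  have h3 := hk.trans (add_le_add h2 le_rfl)
  rw [show (1 : WithBot ℕ∞) = ((1 : ℕ∞) : WithBot ℕ∞) from rfl, ← WithBot.coe_add] at h3
  have h4 : ((k + 1 : ℕ) : ℕ∞) ≤ 1 + p.asIdeal.height := WithBot.coe_le_coe.1 h3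
  rw [Nat.cast_succ, add_comm (1 : ℕ∞)] at h4
  exact WithBot.coe_le_coe.2 ((ENat.addLECancellable_of_ne_top ENat.one_ne_top).add_le_add_iff_right.1 h4)

/-- Grothendieck: complete intersections of dimension at least four. -/
theorem ptm_ci : ∀ (n : ℕ) (R : Type u) [CommRing R] [IsRegularLocalRing R] (rs : List R),
    rs.length = n → (∀ r ∈ rs, r ∈ maximalIdeal R) → IsWeaklyRegular R rs →
    ∀ [IsLocalRing (R ⧸ Ideal.ofList rs)], (4 : WithBot ℕ∞) ≤ ringKrullDim (R ⧸ Ideal.ofList rs) →
    PTm (R ⧸ Ideal.ofList rs) := by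
  intro n
  induction n with
  | zero =>
    intro R _ _ rs hlen hm hreg _ hdim
    obtain rfl := List.length_eq_zero_iff.1 hlen
    haveI : IsRegularLocalRing (R ⧸ Ideal.ofList ([] : List R)) := IsRegularLocalRing.of_ringEquiv
      ((Ideal.quotEquivOfEq (I := Ideal.ofList ([] : List R)) (J := ⊥) Ideal.ofList_nil).trans
        (RingEquiv.quotientBot R)).symm
    haveI := DepthLib.isCohenMacaulayLocalRing_of_isRegularLocalRing (R := R ⧸ Ideal.ofList ([] : List R))
    exact ptm_of_picTrivial (le_trans (by norm_num) (le_depth_of_le_dim (k := 4) hdim)) (S9549.result _)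
  | succ n ih =>
    intro R _ _ rs hlen hm hreg _ hdim
    obtain ⟨l, t₀, rfl⟩ : ∃ l t₀, rs = l ++ [t₀] := by
      rcases List.eq_nil_or_concat rs with h | ⟨l, a, h⟩
      · simp [h] at hlen
      · exact ⟨l, a, by simpa using h⟩
    have hl : l.length = n := by simpa using hlen
    let C := AdicCompletion (maximalIdeal R) R
    haveI : IsRegularLocalRing C := (Compl.isRegularLocalRing_adicCompletion_iff (A := R)).1 inferInstance
    haveI : Module.Flat R C := AdicCompletion.flat_of_isNoetherian _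
    let φ := algebraMap R C
    have hmC : maximalIdeal C = (maximalIdeal R).map φ := AdicCompletion.maximalIdeal_eq_map
    have hm' : ∀ r ∈ (l ++ [t₀]).map φ, r ∈ maximalIdeal C := fun r hr => by
      obtain ⟨a, ha, rfl⟩ := List.mem_map.1 hr
      rw [hmC]
      exact Ideal.mem_map_of_mem φ (hm a ha)
    have hreg' : IsWeaklyRegular C ((l ++ [t₀]).map φ) := hreg.of_flat
    let l' := l.map φ
    let t₁ := φ t₀
    have hl'm : ∀ r ∈ l', r ∈ maximalIdeal C := fun r hr =>
      hm' r (by rw [List.map_append]; exact List.mem_append_left _ hr)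
    have hreg'' := hreg'
    rw [List.map_append, List.map_singleton, isWeaklyRegular_append_iff, isWeaklyRegular_cons_iff] at hreg''
    obtain ⟨hl'reg, ht₁reg, -⟩ := hreg''
    let B := C ⧸ Ideal.ofList l'
    haveI : IsLocalRing B := isLocalRing_quotient_ofList hl'm
    haveI : LocCoh.IsCohenMacaulayLocalRing B := cm_quotient hl'm hl'reg
    let t : B := Ideal.Quotient.mk _ t₁
    have ht : t ∈ maximalIdeal B := by
      rw [← IsLocalRing.map_maximalIdeal_of_surjective (Ideal.Quotient.mk (Ideal.ofList l')) Ideal.Quotient.mk_surjective]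
      exact Ideal.mem_map_of_mem _ (hm' t₁ (List.mem_map_of_mem (List.mem_append_right _ (List.mem_singleton_self _))))
    have htreg : ∀ x : B, t * x = 0 → x = 0 := fun x hx => by
      obtain ⟨c, rfl⟩ := Ideal.Quotient.mk_surjective x
      rw [← map_mul, Ideal.Quotient.eq_zero_iff_mem] at hx
      have h := isSMulRegular_iff_right_eq_zero_of_smul.1 ht₁reg (Submodule.Quotient.mk c) (by
        rw [← Submodule.Quotient.mk_smul, Submodule.Quotient.mk_eq_zero, smul_eq_mul, smul_eq_mul, Ideal.mul_top]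
        exact hx)
      rw [Submodule.Quotient.mk_eq_zero, smul_eq_mul, Ideal.mul_top] at h
      exact Ideal.Quotient.eq_zero_iff_mem.2 h
    -- dimensions
    obtain ⟨d, e, hd, he, hde⟩ := exists_dim hm hreg
    obtain ⟨d', e', hd', he', hde'⟩ := exists_dim hl'm hl'reg
    obtain rfl : d = d' := by
      have h := Compl.ringKrullDim_maximalIdeal_adicCompletion (A := R)
      rw [hd, hd'] at h
      exact_mod_cast h.symm
    rw [he] at hdim
    have he4 : 4 ≤ e := by exact_mod_cast hdim
    have hl'len : l'.length = n := by simp [l', hl]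
    rw [hlen] at hde
    rw [hl'len] at hde'
    have hB5 : ((5 : ℕ) : WithBot ℕ∞) ≤ ringKrullDim B := by
      rw [he']
      exact Nat.cast_le.2 (by omega)
    haveI : IsLocalRing (B ⧸ Ideal.span {t}) :=
      haveI := Ideal.Quotient.nontrivial_iff.2 fun h : Ideal.span {t} = ⊤ =>
        (maximalIdeal.isMaximal B).ne_top (top_le_iff.1 (h ▸ (Ideal.span_singleton_le_iff_mem _).2 ht))
      IsLocalRing.of_surjective' _ Ideal.Quotient.mk_surjective
    haveI : IsAdicComplete (maximalIdeal B) B := CohenAlg3.isAdicComplete_quotient (R := C) (Ideal.ofList l')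
    haveI : IsAdicComplete (Ideal.span {t}) B :=
      CT6.isAdicComplete_of_le ((Ideal.span_singleton_le_iff_mem (maximalIdeal B)).2 ht)
    have hPB : PTm B := ih C l' hl'len hl'm hl'reg ((Nat.cast_le.2 (show 4 ≤ 5 by norm_num)).trans hB5)
    have hQ : PTm (B ⧸ Ideal.span {t}) := ptm_quotient ht htreg (le_depth_of_le_dim (k := 5) hB5) hPB
      fun p hp _ hq => by
        let P := p.asIdeal.comap (Ideal.Quotient.mk (Ideal.ofList l'))
        let CP := Localization.AtPrime P
        haveI : IsRegularLocalRing CP := RegLoc.isRegularLocalRing_localization C P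
        let l'' := l'.map (algebraMap C CP)
        have hmem : ∀ r ∈ l', r ∈ P := fun r hr => by
          show Ideal.Quotient.mk (Ideal.ofList l') r ∈ p.asIdeal
          rw [Ideal.Quotient.eq_zero_iff_mem.2 (Ideal.subset_span hr : r ∈ Ideal.ofList l')]
          exact p.asIdeal.zero_mem
        have hl''m : ∀ r ∈ l'', r ∈ maximalIdeal CP := fun r hr => by
          obtain ⟨a, ha, rfl⟩ := List.mem_map.1 hr
          exact (IsLocalization.AtPrime.to_map_mem_maximal_iff CP P a).2 (hmem a ha)
        have hl''reg : IsWeaklyRegular CP l'' := hl'reg.of_flat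
        haveI := isLocalRing_quotient_ofList hl''m
        let eq : (CP ⧸ Ideal.ofList l'') ≃+* Localization.AtPrime p.asIdeal :=
          (Ideal.quotEquivOfEq (by rw [Ideal.map_ofList])).trans
            (RegLoc.localizationQuotientEquiv (Ideal.ofList l') p.asIdeal)
        have h4 : (4 : WithBot ℕ∞) ≤ ringKrullDim (CP ⧸ Ideal.ofList l'') := by
          rw [ringKrullDim_eq_of_ringEquiv eq]
          exact le_height_of_maximal_away ht hp hq (k := 4) hB5
        exact ptm_of_ringEquiv eq (ih CP l'' (by simp [l'', hl'len]) hl''m hl''reg h4)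
    -- descend along the completion
    let K := Ideal.ofList (l ++ [t₀])
    let K' := K.map φ
    have hK' : Ideal.ofList l' ⊔ Ideal.span {t₁} = K' := by
      simp only [K', K, Ideal.map_ofList, List.map_append, List.map_singleton, Ideal.ofList_append, Ideal.ofList_singleton]
      rfl
    have hK'm : K' ≤ maximalIdeal C := by
      rw [hmC]; exact Ideal.map_mono (ofList_le_maximalIdeal hm)
    haveI : Nontrivial (C ⧸ K') := Ideal.Quotient.nontrivial_iff.2 fun h =>
      (maximalIdeal.isMaximal C).ne_top (top_le_iff.1 (h ▸ hK'm))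
    haveI : IsLocalRing (C ⧸ K') := IsLocalRing.of_surjective' _ Ideal.Quotient.mk_surjective
    let eB : (B ⧸ Ideal.span {t}) ≃+* (C ⧸ K') :=
      (Ideal.quotEquivOfEq (by rw [Ideal.map_span, Set.image_singleton])).trans
        ((DoubleQuot.quotQuotEquivQuotSup (Ideal.ofList l') (Ideal.span {t₁})).trans (Ideal.quotEquivOfEq hK'))
    have hCK : PTm (C ⧸ K') := ptm_of_ringEquiv eB hQ
    letI : Algebra (R ⧸ K) (C ⧸ K') := (Ideal.quotientMap K' φ Ideal.le_comap_map).toAlgebra
    haveI : Module.Flat (R ⧸ K) (C ⧸ K') := PerfLCI4.flat_quotient_map (R := R) (L := C) K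
    haveI : IsLocalHom (algebraMap (R ⧸ K) (C ⧸ K')) := ⟨fun x hx => by
      obtain ⟨a, rfl⟩ := Ideal.Quotient.mk_surjective x
      refine (isUnit_of_map_unit φ a ?_).map (Ideal.Quotient.mk K)
      by_contra hna
      exact (IsLocalRing.maximalIdeal.isMaximal (C ⧸ K')).ne_top (Ideal.eq_top_of_isUnit_mem _
        ((IsLocalRing.map_maximalIdeal_of_surjective (Ideal.Quotient.mk K') Ideal.Quotient.mk_surjective).le
          (Ideal.mem_map_of_mem _ hna)) hx)⟩
    haveI : Module.FaithfullyFlat (R ⧸ K) (C ⧸ K') := Module.FaithfullyFlat.of_flat_of_isLocalHom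
    refine ptm_of_faithfullyFlat (fun Q hQ' => ?_) hCK
    rw [← IsLocalRing.map_maximalIdeal_of_surjective (Ideal.Quotient.mk K') Ideal.Quotient.mk_surjective, hmC,
      Ideal.map_map, Ideal.map_le_iff_le_comap]
    intro a ha
    exact hQ' ((IsLocalRing.map_maximalIdeal_of_surjective (Ideal.Quotient.mk K) Ideal.Quotient.mk_surjective).le
      (Ideal.mem_map_of_mem _ ha))

end Groth.Agent.CIPic27
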