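import Groth.Agent.Lib.CIPic27.Step
import Groth.Agent.Lib.LocCoh.TopTensor

/-!
# Triviality of the punctured Picard group of a hyperplane section
-/

set_option autoImplicit false
set_option linter.style.haveILetI false

universe u

open IsLocalRing TensorProduct CategoryTheory

noncomputable section

namespace Groth.Agent.CIPic27

open Groth.Agent.LocCohLib Groth.Agent.InjHullLib Groth.Agent.ParaGr27

variable {B : Type u} [CommRing B] [IsLocalRing B] [IsNoetherianRing B] {t : B}

/-- Finite length of `H²` of a module free of rank one off the closed point over `B/(t)`. -/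
theorem isFiniteLength_H2 [IsLocalRing (B ⧸ Ideal.span {t})]
    (hd : (4 : ℕ∞) ≤ LocCoh.depth (B ⧸ Ideal.span {t}) (B ⧸ Ideal.span {t})) (M : Type u) [AddCommGroup M] [Module B M] [Module (B ⧸ Ideal.span {t}) M]
    [IsScalarTower B (B ⧸ Ideal.span {t}) M] [Module.Finite B M] (hM : FreeOff (B ⧸ Ideal.span {t}) M) :
    IsFiniteLength B (LocCoh.H (maximalIdeal B) 2 M) := by
  classical
  let A := B ⧸ Ideal.span {t}
  let m := maximalIdeal B
  have hs : Function.Surjective (algebraMap B A) := Ideal.Quotient.mk_surjective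
  have hvA : Van B A 2 := by
    rw [← FlatDepth.depth_eq_of_surjective (A := B) (B := A) (M := A) hs] at hd
    exact (van_iff_natCast_le_depth 4).2 hd 2 (by omega)
  refine (GorenLib.isFiniteLength_H_iff M 2).2 fun a ha => ?_
  obtain ⟨r, k, f, g, hfg⟩ := fac_of_freeOff hM (algebraMap B A a) (by
    rw [← IsLocalRing.eq_maximalIdeal (Ideal.comap_isMaximal_of_surjective (K := maximalIdeal A) _ hs)] at ha
    exact ha)
  refine ⟨k, Module.mem_annihilator.2 fun x => ?_⟩
  let g' := g.restrictScalars B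
  let f' := f.restrictScalars B
  have hsum : a ^ k • (LinearMap.id : M →ₗ[B] M) =
      ∑ j, (g' ∘ₗ LinearMap.single B (fun _ : Fin r => A) j) ∘ₗ (LinearMap.proj j ∘ₗ f') := by
    refine LinearMap.ext fun y => ?_
    simp only [LinearMap.sum_apply, LinearMap.comp_apply, LinearMap.proj_apply, LinearMap.single_apply,
      LinearMap.smul_apply, LinearMap.id_apply]
    rw [← map_sum, Finset.univ_sum_single]
    show _ = g (f y)
    rw [show g (f y) = algebraMap B A a ^ k • y from LinearMap.congr_fun hfg y, ← map_pow,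
      IsScalarTower.algebraMap_smul]
  have h := LinearMap.congr_fun (congrArg (hmap m 2) hsum) x
  rw [hmap_smul, hmap_id] at h
  refine h.trans ?_
  suffices key : ∀ s : Finset (Fin r), hmap m 2
      (∑ j ∈ s, (g' ∘ₗ LinearMap.single B (fun _ : Fin r => A) j) ∘ₗ (LinearMap.proj j ∘ₗ f')) x = 0 from key _
  intro s
  induction s using Finset.induction_on with
  | empty =>
    rw [Finset.sum_empty, ← zero_smul B (LinearMap.id : M →ₗ[B] M), hmap_smul, zero_smul]
    rfl
  | insert j s hj ih =>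
    rw [Finset.sum_insert hj]
    rw [LocCohLib.hmap_add, LinearMap.add_apply, ih, add_zero, hmap_comp m 2 (g' ∘ₗ LinearMap.single B (fun _ : Fin r => A) j),
      LinearMap.comp_apply]
    exact (congrArg _ (hvA.elim _ 0)).trans (map_zero _)

omit [IsNoetherianRing B] in
theorem eval_smul_eq {X : Type u} [AddCommGroup X] [Module B X] {u : X} {s : B} {ψ : X →ₗ[B] B}
    (hψ : ∀ x, ψ x • u = (s * s) • x) (G : D B (D B X)) : (s * s) • G = G ψ • Module.Dual.eval B X u :=
  LinearMap.ext fun φ => by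
    have h3 : (s * s) • φ = φ u • ψ := LinearMap.ext fun x => by
      rw [LinearMap.smul_apply, LinearMap.smul_apply, ← map_smul, ← hψ, map_smul, smul_eq_mul, smul_eq_mul, mul_comm]
    rw [LinearMap.smul_apply, ← map_smul, h3, map_smul, LinearMap.smul_apply, smul_eq_mul, smul_eq_mul, mul_comm]
    rfl

theorem finite_D {X : Type u} [AddCommGroup X] [Module B X] [Module.Finite B X] : Module.Finite B (D B X) := by
  obtain ⟨r, π, hπ⟩ := Module.Finite.exists_fin' B X
  exact Module.Finite.of_injective (LinearMap.lcomp B B π) fun f g h => (LinearMap.cancel_right hπ).1 h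

/-- The dual of a lift is free of rank one off the closed point. -/
theorem freeOff_dual_of_local {X : Type u} [AddCommGroup X] [Module B X] [Module.Finite B X] (ht : t ∈ maximalIdeal B)
    (hX : ∀ p : PrimeSpectrum B, ¬ maximalIdeal B ≤ p.asIdeal → t ∈ p.asIdeal → Free1 B X p)
    (hloc : ∀ p : PrimeSpectrum B, ¬ maximalIdeal B ≤ p.asIdeal → t ∉ p.asIdeal →
      (∀ q : PrimeSpectrum B, p ≤ q → t ∈ q.asIdeal → maximalIdeal B ≤ q.asIdeal) →
      PTm (Localization.AtPrime p.asIdeal)) :
    FreeOff B (D B X) := by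
  intro p hp
  haveI := finite_D (B := B) (X := X)
  by_cases hq : ∃ q : PrimeSpectrum B, p ≤ q ∧ t ∈ q.asIdeal ∧ ¬ maximalIdeal B ≤ q.asIdeal
  · obtain ⟨q, hpq, htq, hqm⟩ := hq
    exact free1_of_le hpq (free1_dual (hX q hqm htq))
  · push Not at hq
    have htp : t ∉ p.asIdeal := fun h => hp (hq p le_rfl h)
    let S := Localization.AtPrime p.asIdeal
    have hXp : FreeOff S (S ⊗[B] X) := by
      intro Q hQ
      have hlt : (PrimeSpectrum.comap (algebraMap B S) Q).asIdeal < p.asIdeal := by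
        have hle : Q.asIdeal.comap (algebraMap B S) ≤ p.asIdeal :=
          (Ideal.comap_mono (IsLocalRing.le_maximalIdeal Q.isPrime.ne_top)).trans
            (Localization.AtPrime.under_maximalIdeal).le
        refine lt_of_le_of_ne hle fun h => hQ ?_
        rw [← IsLocalization.map_comap p.asIdeal.primeCompl S Q.asIdeal, ← Localization.AtPrime.map_eq_maximalIdeal]
        exact Ideal.map_mono h.ge
      obtain ⟨q, hpq, htq, hqm⟩ := exists_prime_above ht hlt hp
      exact free1_localization p Q (free1_of_le hpq (hX q hqm htq))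
    obtain ⟨e⟩ := hloc p hp htp hq (S ⊗[B] X) hXp
    exact free1_of_tensor_equiv p ((LinearEquiv.ofBijective _ (homComparison_bijective B S (N := X))).trans
      ((LinearMap.liftBaseChangeEquiv S).trans e))

/-- The punctured Picard group of a hyperplane section is trivial. -/
theorem ptm_quotient [IsAdicComplete (Ideal.span {t}) B] (ht : t ∈ maximalIdeal B) (hreg : ∀ x : B, t * x = 0 → x = 0)
    (hd : (5 : ℕ∞) ≤ LocCoh.depth B B) [IsLocalRing (B ⧸ Ideal.span {t})] (hPT : PTm B)
    (hloc : ∀ p : PrimeSpectrum B, ¬ maximalIdeal B ≤ p.asIdeal → t ∉ p.asIdeal →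
      (∀ q : PrimeSpectrum B, p ≤ q → t ∈ q.asIdeal → maximalIdeal B ≤ q.asIdeal) →
      PTm (Localization.AtPrime p.asIdeal)) :
    PTm (B ⧸ Ideal.span {t}) := by
  intro N _ _ _ hN
  let A := B ⧸ Ideal.span {t}
  have hs : Function.Surjective (algebraMap B A) := Ideal.Quotient.mk_surjective
  have hdA : (4 : ℕ∞) ≤ LocCoh.depth A A := natCast_le_depth_quotient (k := 4) ht hreg hd
  let M₀ := D A N
  haveI : Module.Finite A M₀ := finite_D
  haveI : IsScalarTower B A M₀ := inferInstanceAs (IsScalarTower B A (N →ₗ[A] A))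
  haveI : Module.Finite B A := Module.Finite.of_surjective (Algebra.linearMap B A) hs
  haveI : Module.Finite B M₀ := Module.Finite.trans (R := B) A M₀
  have hfree : FreeOff A M₀ := freeOff_dual hN
  have hgood : Good B M₀ := (good_iff_of_surjective (A := B) (C := A) hs).2 (good_dual (le_trans (by norm_num) hdA))
  have hgoodA : Good B A := (good_iff_of_surjective (A := B) (C := A) hs).2 (by
    have h := (van_iff_natCast_le_depth (A := A) (X := A) 2).2 (le_trans (by norm_num) hdA)
    exact ⟨h 0 (by omega), h 1 (by omega)⟩)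
  have hm : (maximalIdeal A).comap (algebraMap B A) = maximalIdeal B :=
    IsLocalRing.eq_maximalIdeal (Ideal.comap_isMaximal_of_surjective _ hs)
  have htA : algebraMap B A t = 0 := Ideal.Quotient.eq_zero_iff_mem.2 (Ideal.mem_span_singleton_self t)
  have hk₀ : ∀ x : M₀, t • x = 0 := fun x => by rw [← algebraMap_smul A, htA, zero_smul]
  have hfree' : ∀ p : PrimeSpectrum B, ¬ maximalIdeal B ≤ p.asIdeal → t ∈ p.asIdeal →
      ∃ (u : M₀) (s : B), s ∉ p.asIdeal ∧ (∀ x, ∃ c : B, s • x = c • u) ∧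
        ∀ c : B, c • u = 0 → s * c ∈ Ideal.span {t} := by
    intro p hp htp
    have hle : RingHom.ker (algebraMap B A) ≤ p.asIdeal := by
      rw [Ideal.Quotient.algebraMap_eq, Ideal.mk_ker]
      exact (Ideal.span_singleton_le_iff_mem _).2 htp
    let P := p.asIdeal.map (algebraMap B A)
    haveI : P.IsPrime := Ideal.map_isPrime_of_surjective hs hle
    have hc : P.comap (algebraMap B A) = p.asIdeal := by
      rw [Ideal.comap_map_of_surjective _ hs, ← RingHom.ker_eq_comap_bot, sup_eq_left.2 hle]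
    obtain ⟨u, s', hs', h1, h2⟩ := hfree ⟨P, inferInstance⟩ fun hP => hp (by rw [← hm, ← hc]; exact Ideal.comap_mono hP)
    obtain ⟨s, rfl⟩ := hs s'
    refine ⟨u, s, fun h => hs' (Ideal.mem_map_of_mem _ h), fun x => ?_, fun c hc' => ?_⟩
    · obtain ⟨c', hc'⟩ := h1 x
      obtain ⟨c, rfl⟩ := hs c'
      exact ⟨c, by rw [← algebraMap_smul A, ← algebraMap_smul A c]; exact hc'⟩
    · have h3 := h2 (algebraMap B A c) (by rw [algebraMap_smul]; exact hc')
      rw [← map_mul] at h3
      exact Ideal.Quotient.eq_zero_iff_mem.1 h3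
  let L₀ : Lev t 0 :=
    { M := ModuleCat.of B M₀
      finite := inferInstance
      kill := fun x => by
        show t ^ (0 + 1) • (x : M₀) = 0
        rw [pow_one]
        exact hk₀ x
      good := hgood
      free := fun p hp htp => by
        obtain ⟨u, s, hs', h1, h2⟩ := hfree' p hp htp
        exact ⟨u, s, hs', h1, fun c hc => by rw [zero_add, pow_one]; exact h2 c hc⟩ }
  obtain ⟨X, _, φ, htf, hker, hcok⟩ := exists_model_limit L₀ (isFiniteLength_H2 hdA M₀ hfree) ht hreg hd
  change X →ₗ[B] M₀ at φ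
  have hgen : ∀ p : PrimeSpectrum B, ¬ maximalIdeal B ≤ p.asIdeal → t ∈ p.asIdeal →
      ∃ (U : X) (s : B), s ∉ p.asIdeal ∧ (∀ x, ∃ c : B, s • φ x = c • φ U) ∧
        ∀ c : B, c • φ U = 0 → ∃ c' : B, s * c = t * c' := by
    intro p hp htp
    obtain ⟨u, s, hs', h1, h2⟩ := hfree' p hp htp
    obtain ⟨r, hrm, hrp⟩ := SetLike.not_le_iff_exists.1 hp
    obtain ⟨k, hk⟩ := hcok (Submodule.Quotient.mk u)
    obtain ⟨U, hU⟩ := (Submodule.Quotient.mk_eq_zero _).1
      ((Submodule.Quotient.mk_smul _ (r ^ k) (u : L₀.M)).trans (hk _ (Ideal.pow_mem_pow hrm k)))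
    change φ U = r ^ k • u at hU
    refine ⟨U, r ^ k * s, fun h => (p.isPrime.mem_or_mem h).elim (fun h => hrp (p.isPrime.mem_of_pow_mem _ h)) hs',
      fun x => ?_, fun c hc => ?_⟩
    · obtain ⟨c, hc⟩ := h1 (φ x)
      exact ⟨c, by rw [mul_smul, hc, hU, smul_comm]⟩
    · obtain ⟨c', hc'⟩ := Ideal.mem_span_singleton'.1 (h2 (c * r ^ k) (by rw [mul_smul, ← hU, hc]))
      exact ⟨c', by rw [mul_comm t, hc']; ring⟩
  have hXfree : ∀ p : PrimeSpectrum B, ¬ maximalIdeal B ≤ p.asIdeal → t ∈ p.asIdeal → Free1 B X p := by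
    intro p hp htp
    obtain ⟨U, s, hs', h1, h2⟩ := hgen p hp htp
    refine free1_of_mod p htp (U := U) hs' htf (fun x => ?_) fun c hc => h2 c (by rw [← map_smul, hc, map_zero])
    obtain ⟨c, hc⟩ := h1 x
    obtain ⟨y, hy⟩ := hker (s • x - c • U) (by
      show φ _ = 0
      rw [map_sub, map_smul, map_smul, hc, sub_self])
    exact ⟨c, y, eq_add_of_sub_eq' hy⟩
  haveI := finite_D (B := B) (X := X)
  obtain ⟨e⟩ := hPT (D B X) (freeOff_dual_of_local ht hXfree hloc)
  let φ₁ : X →ₗ[B] A := Algebra.linearMap B A ∘ₗ (e.toLinearMap ∘ₗ Module.Dual.eval B X)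
  have hle : LinearMap.ker φ ≤ LinearMap.ker φ₁ := fun x hx => by
    obtain ⟨y, rfl⟩ := hker x hx
    rw [LinearMap.mem_ker, map_smul, ← algebraMap_smul A, htA, zero_smul]
  let f : LinearMap.range φ →ₗ[B] A :=
    (LinearMap.ker φ).liftQ φ₁ hle ∘ₗ φ.quotKerEquivRange.symm.toLinearMap
  have hj : IsoOff B (LinearMap.range φ).subtype :=
    ⟨fun x => ⟨0, fun r _ => Subtype.ext ((LinearMap.range φ).injective_subtype
      ((LinearMap.mem_ker.1 (r • x).2).trans (map_zero (LinearMap.range φ).subtype).symm))⟩,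
      by rw [Submodule.range_subtype]; exact hcok⟩
  obtain ⟨g, hg⟩ := exists_extend_isoOff hgoodA hj f
  have hgφ : ∀ x, g (φ x) = φ₁ x := fun x => by
    refine (LinearMap.congr_fun hg ⟨_, LinearMap.mem_range_self φ x⟩).trans ?_
    simp only [f, LinearMap.comp_apply, LinearEquiv.coe_coe]
    rw [show φ.quotKerEquivRange.symm ⟨φ x, LinearMap.mem_range_self _ x⟩ = Submodule.Quotient.mk x from
      φ.quotKerEquivRange.symm_apply_eq.2 (Subtype.ext rfl), Submodule.liftQ_apply]
  have hunit : ∀ p : PrimeSpectrum B, ¬ maximalIdeal B ≤ p.asIdeal → t ∈ p.asIdeal →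
      ∃ (U : X) (s : B), s ∉ p.asIdeal ∧ (∀ x, ∃ c : B, s • φ x = c • φ U) ∧
        (∀ c : B, c • φ U = 0 → ∃ c' : B, s * c = t * c') ∧ e (Module.Dual.eval B X U) ∉ p.asIdeal := by
    intro p hp htp
    obtain ⟨U, s, hs', h1, h2⟩ := hgen p hp htp
    obtain ⟨U', s', hs'', h1', h2'⟩ := hXfree p hp htp
    obtain ⟨ψ, -, hψ⟩ := exists_func U' s' h1' h2'
    have h := congrArg e (eval_smul_eq hψ (e.symm 1))
    rw [map_smul, e.apply_symm_apply, smul_eq_mul, mul_one, map_smul, smul_eq_mul] at h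
    have hU' : e (Module.Dual.eval B X U') ∉ p.asIdeal := fun hmem =>
      (p.isPrime.mem_or_mem (h ▸ p.asIdeal.mul_mem_left _ hmem : s' * s' ∈ p.asIdeal)).elim hs'' hs''
    refine ⟨U, s, hs', h1, h2, ?_⟩
    obtain ⟨c, hc⟩ := h1' U
    obtain ⟨d, hd'⟩ := h1 U'
    obtain ⟨y, hy⟩ := hker (s • U' - d • U) (by
      show φ _ = 0
      rw [map_sub, map_smul, map_smul, hd', sub_self])
    have h3 := congrArg (fun z => e (Module.Dual.eval B X z)) (eq_add_of_sub_eq' hy)
    simp only [map_smul, map_add, smul_eq_mul] at h3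
    intro hmem
    refine (p.isPrime.mem_or_mem (show s * e (Module.Dual.eval B X U') ∈ p.asIdeal from ?_)).elim hs' hU'
    rw [h3]
    exact p.asIdeal.add_mem (p.asIdeal.mul_mem_left _ hmem) (p.asIdeal.mul_mem_right _ htp)
  have hg' : IsoOff B g := by
    constructor
    · refine isPowerTorsion_of_local fun y p hp => ?_
      by_cases htp : t ∈ p.asIdeal
      · obtain ⟨U, s, hs', h1, h2, hb⟩ := hunit p hp htp
        obtain ⟨r, hrm, hrp⟩ := SetLike.not_le_iff_exists.1 hp
        obtain ⟨k, hk⟩ := hcok (Submodule.Quotient.mk (y : M₀))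
        obtain ⟨x, hx⟩ := (Submodule.Quotient.mk_eq_zero _).1
          ((Submodule.Quotient.mk_smul _ (r ^ k) ((y : M₀) : L₀.M)).trans (hk _ (Ideal.pow_mem_pow hrm k)))
        change φ x = r ^ k • (y : M₀) at hx
        obtain ⟨c, hc⟩ := h1 x
        have h0 : (Ideal.Quotient.mk (Ideal.span {t})) (c * e (Module.Dual.eval B X U)) = 0 := by
          have h4 : g (c • φ U) = 0 := by rw [← hc, hx, ← mul_smul, map_smul, LinearMap.mem_ker.1 y.2, smul_zero]
          rw [map_smul, hgφ] at h4
          refine Eq.trans ?_ h4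
          show algebraMap B A _ = c • algebraMap B A _
          rw [map_mul, Algebra.smul_def]
          rfl
        obtain ⟨d, hd'⟩ := Ideal.mem_span_singleton'.1 (Ideal.Quotient.eq_zero_iff_mem.1 h0)
        refine ⟨e (Module.Dual.eval B X U) * (s * r ^ k), fun h => (p.isPrime.mem_or_mem h).elim hb fun h =>
          (p.isPrime.mem_or_mem h).elim hs' fun h => hrp (p.isPrime.mem_of_pow_mem _ h), Subtype.ext ?_⟩
        rw [Submodule.coe_smul, mul_smul, mul_smul, ← hx, hc, ← mul_smul, mul_comm, ← hd', mul_smul, hk₀, smul_zero]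
        rfl
      · exact ⟨t, htp, Subtype.ext (hk₀ _)⟩
    · refine isPowerTorsion_of_local fun q p hp => ?_
      obtain ⟨a, rfl⟩ := Submodule.Quotient.mk_surjective _ q
      obtain ⟨a, rfl⟩ := hs a
      by_cases htp : t ∈ p.asIdeal
      · obtain ⟨U, s, -, -, -, hb⟩ := hunit p hp htp
        refine ⟨e (Module.Dual.eval B X U), hb, ?_⟩
        rw [← Submodule.Quotient.mk_smul, Submodule.Quotient.mk_eq_zero]
        refine ⟨a • φ U, ?_⟩
        rw [map_smul, hgφ]
        show a • algebraMap B A _ = _ • algebraMap B A a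
        rw [Algebra.smul_def, Algebra.smul_def, mul_comm]
        rfl
      · exact ⟨t, htp, by rw [← Submodule.Quotient.mk_smul, ← algebraMap_smul A t, htA, zero_smul, Submodule.Quotient.mk_zero]⟩
  let E : M₀ ≃ₗ[B] A := LinearEquiv.ofBijective g (bijective_of_isoOff hgood hgoodA hg')
  exact ⟨E.extendScalarsOfSurjective hs⟩

end Groth.Agent.CIPic27
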