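import Groth.Agent.Lib.CIPic27.CI
import Groth.Agent.Lib.ParaF27.DepthTwo
import Groth.Prelude.Def_SGA2
import Groth.Prelude.Def_Pi1
import Mathlib.RingTheory.Localization.LocalizationLocalization

/-!
# Grothendieck's parafactoriality theorem for complete intersections
-/

set_option autoImplicit false
set_option linter.style.haveILetI false

universe u

open IsLocalRing RingTheory.Sequence AlgebraicGeometry CategoryTheory

noncomputable section

namespace Groth.Agent.CIPic27

open Groth.Agent.ParaGr27

variable (A : Type u) [CommRing A] [IsLocalRing A] [IsNoetherianRing A]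

theorem exists_cm_of_absCI (hA : SGA2.IsAbsCompleteIntersection A) :
    ∃ (R : Type u) (_ : CommRing R) (_ : IsRegularLocalRing R) (rs : List R),
      (∀ r ∈ rs, r ∈ maximalIdeal R) ∧ IsWeaklyRegular R rs ∧ Nonempty (A ≃+* R ⧸ Ideal.ofList rs) := by
  obtain ⟨R, _, _, rs, hm, hreg, ⟨e⟩⟩ := hA
  exact ⟨R, inferInstance, inferInstance, rs, hm, hreg.toIsWeaklyRegular, ⟨e⟩⟩

/-- A complete intersection is Cohen–Macaulay: depth is at least any lower bound of the dimension. -/
theorem le_depth_absCI (hA : SGA2.IsAbsCompleteIntersection A) {k : ℕ}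
    (hk : (k : WithBot ℕ∞) ≤ ringKrullDim A) : (k : ℕ∞) ≤ LocCoh.depth A A := by
  obtain ⟨R, _, _, rs, hm, hreg, ⟨e⟩⟩ := exists_cm_of_absCI A hA
  haveI := cm_quotient hm hreg
  rw [ringKrullDim_eq_of_ringEquiv e] at hk
  have h := le_depth_of_le_dim hk
  letI : Algebra A (R ⧸ Ideal.ofList rs) := e.toRingHom.toAlgebra
  let el : A ≃ₗ[A] R ⧸ Ideal.ofList rs := LinearEquiv.ofBijective (Algebra.linearMap A _) e.bijective
  rw [← FlatDepth.depth_eq_of_surjective (A := A) (B := R ⧸ Ideal.ofList rs) (M := R ⧸ Ideal.ofList rs) e.surjective] at h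
  rwa [LocCoh.depth, DepthLib.idealDepth_congr el]

/-- Complete intersections of dimension at least four. -/
theorem ptm_absCI (hA : SGA2.IsAbsCompleteIntersection A) (hdim : (4 : WithBot ℕ∞) ≤ ringKrullDim A) : PTm A := by
  obtain ⟨R, _, _, rs, hm, hreg, ⟨e⟩⟩ := exists_cm_of_absCI A hA
  haveI := isLocalRing_quotient_ofList hm
  rw [ringKrullDim_eq_of_ringEquiv e] at hdim
  exact ptm_of_ringEquiv e.symm (ptm_ci rs.length R rs rfl hm hreg hdim)

/-- Parafactoriality of complete intersections of dimension at least four. -/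
theorem isParafactorial_absCI (hA : SGA2.IsAbsCompleteIntersection A) (hdim : (4 : WithBot ℕ∞) ≤ ringKrullDim A) :
    ParaF.IsParafactorialLocalRing A := by
  refine (ParaF27.isParafactorialLocalRing_iff (A := A)).2 ⟨?_, picTrivial_of_ptm (ptm_absCI A hA hdim)⟩
  have hd := (van_iff_natCast_le_depth (A := A) (X := A) 4).2 (le_depth_absCI A hA (k := 4) hdim)
  have hb := bijective_toS (hd 0 (by omega)) (hd 1 (by omega))
  rw [← puncturedOpen_maximalIdeal]
  have hr : Function.Bijective (LocCohSheafLib.rho A
      (le_top : LocCoh.puncturedOpen A (maximalIdeal A) ≤ (⊤ : (Spec (CommRingCat.of A)).Opens))) := by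
    refine (Function.Bijective.of_comp_iff _ LocCohSheafLib.toS_top_bijective).1 ?_
    convert! hb using 1
  exact hr

/-- The localisation of a complete intersection is one. -/
theorem absCI_localization (hA : SGA2.IsAbsCompleteIntersection A) (p : Ideal A) [p.IsPrime] :
    SGA2.IsAbsCompleteIntersection (Localization.AtPrime p) := by
  obtain ⟨R, _, _, rs, hm, hreg, ⟨e⟩⟩ := exists_cm_of_absCI A hA
  let q : Ideal (R ⧸ Ideal.ofList rs) := p.comap e.symm.toRingHom
  let P := q.comap (Ideal.Quotient.mk (Ideal.ofList rs))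
  let RP := Localization.AtPrime P
  haveI : IsRegularLocalRing RP := RegLoc.isRegularLocalRing_localization R P
  have hmem : ∀ r ∈ rs, r ∈ P := fun r hr => by
    show Ideal.Quotient.mk (Ideal.ofList rs) r ∈ q
    rw [Ideal.Quotient.eq_zero_iff_mem.2 (Ideal.subset_span hr : r ∈ Ideal.ofList rs)]
    exact q.zero_mem
  have hm' : ∀ r ∈ rs.map (algebraMap R RP), r ∈ maximalIdeal RP := fun r hr => by
    obtain ⟨a, ha, rfl⟩ := List.mem_map.1 hr
    exact (IsLocalization.AtPrime.to_map_mem_maximal_iff RP P a).2 (hmem a ha)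
  have hreg' : IsWeaklyRegular RP (rs.map (algebraMap R RP)) := hreg.of_flat
  refine ⟨RP, inferInstance, inferInstance, rs.map (algebraMap R RP), hm',
    (IsLocalRing.isRegular_iff_isWeaklyRegular_of_subset_maximalIdeal hm').2 hreg', ⟨?_⟩⟩
  exact (Localization.localRingEquiv p q e (Ideal.ext fun x => by simp [q])).trans
    (((Ideal.quotEquivOfEq (Ideal.map_ofList (algebraMap R RP) rs).symm).trans
      (RegLoc.localizationQuotientEquiv (Ideal.ofList rs) q)).symm)

/-- Grothendieck: factorial in codimension three implies factorial. -/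
theorem ufd_absCI : ∀ (d : ℕ) (A : Type u) [CommRing A] [IsLocalRing A] [IsNoetherianRing A],
    ringKrullDim A ≤ d → SGA2.IsAbsCompleteIntersection A →
    (∀ p : PrimeSpectrum A, ringKrullDim (Localization.AtPrime p.asIdeal) ≤ 3 →
      IsDomain (Localization.AtPrime p.asIdeal) ∧ UniqueFactorizationMonoid (Localization.AtPrime p.asIdeal)) →
    IsDomain A ∧ UniqueFactorizationMonoid A := by
  intro d
  induction d using Nat.strong_induction_on with
  | _ d ih =>
    intro A _ _ _ hd hA h
    by_cases h3 : ringKrullDim A ≤ 3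
    · let e : A ≃+* Localization.AtPrime (maximalIdeal A) :=
        (IsLocalization.atUnits A (maximalIdeal A).primeCompl
          (S := Localization.AtPrime (maximalIdeal A)) fun x hx => show IsUnit x by
            simpa [Ideal.primeCompl, IsLocalRing.mem_maximalIdeal] using hx).toRingEquiv
      obtain ⟨h1, h2⟩ := h ⟨maximalIdeal A, inferInstance⟩ (by rw [← ringKrullDim_eq_of_ringEquiv e]; exact h3)
      exact ⟨MulEquiv.isDomain _ e.toMulEquiv, MulEquiv.uniqueFactorizationMonoid e.symm.toMulEquiv h2⟩
    · have h4 : ((4 : ℕ) : WithBot ℕ∞) ≤ ringKrullDim A := by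
        rw [← IsLocalRing.maximalIdeal_height_eq_ringKrullDim] at h3 ⊢
        exact WithBot.coe_le_coe.2 (Order.add_one_le_of_lt (not_le.1 fun hh => h3 (WithBot.coe_le_coe.2 hh) : (3 : ℕ∞) < _))
      have hloc : ∀ (p : Ideal A) [p.IsPrime], p ≠ maximalIdeal A →
          IsDomain (Localization.AtPrime p) ∧ UniqueFactorizationMonoid (Localization.AtPrime p) := by
        intro p _ hp
        have hlt : p < maximalIdeal A := lt_of_le_of_ne (IsLocalRing.le_maximalIdeal (Ideal.IsPrime.ne_top ‹_›)) hp
        have hh := Ideal.height_strict_mono_of_isPrime_of_isPrime hlt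
        have hdA : (maximalIdeal A).height ≤ d := by
          rw [← IsLocalRing.maximalIdeal_height_eq_ringKrullDim] at hd
          exact WithBot.coe_le_coe.1 hd
        obtain ⟨k, hk⟩ := ENat.ne_top_iff_exists.1 (ne_top_of_lt hh)
        have hkd : k < d := by exact_mod_cast (hk ▸ hh).trans_le hdA
        refine ih k hkd (Localization.AtPrime p) ?_ (absCI_localization A hA p) fun q hq => ?_
        · rw [IsLocalization.AtPrime.ringKrullDim_eq_height p, ← hk]
          rfl
        · let e := IsLocalization.localizationLocalizationAtPrimeIsoLocalization p.primeCompl q.asIdeal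
          obtain ⟨h1, h2⟩ := h ⟨q.asIdeal.comap (algebraMap A (Localization.AtPrime p)), inferInstance⟩
            ((ringKrullDim_eq_of_ringEquiv e.toRingEquiv).trans_le hq)
          exact ⟨MulEquiv.isDomain _ e.symm.toRingEquiv.toMulEquiv,
            MulEquiv.uniqueFactorizationMonoid e.toRingEquiv.toMulEquiv h2⟩
      have hp2 : ParaF27.Pair2 A := ParaF27.pair2_of_depth A
        (le_trans (by norm_num) (le_depth_absCI A hA h4))
      haveI : IsDomain A := ParaF27.isDomain_of_pair2 hp2 fun p _ hp => (hloc p hp).1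
      exact ⟨inferInstance, ParaF27.ufd_of_picTrivial A (le_trans (Nat.cast_le.2 (by norm_num : 2 ≤ 4)) h4)
        (picTrivial_of_ptm (ptm_absCI A hA h4)) (ParaF27.dvdOn_of_pair2 hp2) fun p _ hp => (hloc p hp).2⟩

/-- Complete intersections in the sense of completions. -/
theorem ptm_CI (hci : Pi1.IsCompleteIntersection A) (hdim : (4 : WithBot ℕ∞) ≤ ringKrullDim A) : PTm A := by
  haveI := Compl.isNoetherianRing_maximalIdeal_adicCompletion A
  let C := AdicCompletion (maximalIdeal A) A
  have hC : SGA2.IsAbsCompleteIntersection C := hci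
  haveI : Module.Flat A C := AdicCompletion.flat_of_isNoetherian _
  haveI : Module.FaithfullyFlat A C := Module.FaithfullyFlat.of_flat_of_isLocalHom
  refine ptm_of_faithfullyFlat (S := C) (fun Q hQ => ?_) (ptm_absCI C hC ?_)
  · rw [AdicCompletion.maximalIdeal_eq_map, Ideal.map_le_iff_le_comap]
    exact hQ
  · rw [Compl.ringKrullDim_maximalIdeal_adicCompletion]
    exact hdim

end Groth.Agent.CIPic27
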