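import Groth.Agent.Lib.ParaGr27.Geom
import Mathlib.RingTheory.TensorProduct.IsBaseChangeHom

/-!
# Modules free of rank one off the closed point
-/

set_option autoImplicit false
set_option linter.style.haveILetI false

universe u

open IsLocalRing TensorProduct

noncomputable section

namespace Groth.Agent.CIPic27

open Groth.Agent.LocCohLib Groth.Agent.InjHullLib Groth.Agent.ParaGr27

variable (A : Type u) [CommRing A]

/-- The dual module. -/
abbrev D (N : Type u) [AddCommGroup N] [Module A N] : Type u := N →ₗ[A] A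

/-- `N` is free of rank one near the prime `p`. -/
def Free1 (N : Type u) [AddCommGroup N] [Module A N] (p : PrimeSpectrum A) : Prop :=
  ∃ (u : N) (s : A), s ∉ p.asIdeal ∧ (∀ x, ∃ c : A, s • x = c • u) ∧ ∀ c : A, c • u = 0 → s * c = 0

variable [IsLocalRing A]

/-- `N` is free of rank one off the closed point. -/
def FreeOff (N : Type u) [AddCommGroup N] [Module A N] : Prop :=
  ∀ p : PrimeSpectrum A, ¬ maximalIdeal A ≤ p.asIdeal → Free1 A N p

/-- Depth at least two, homologically. -/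
def Good (X : Type u) [AddCommGroup X] [Module A X] : Prop := Van A X 0 ∧ Van A X 1

/-- An isomorphism off the closed point. -/
def IsoOff {M X : Type u} [AddCommGroup M] [Module A M] [AddCommGroup X] [Module A X] (f : M →ₗ[A] X) : Prop :=
  LocCoh.IsPowerTorsion (maximalIdeal A) (LinearMap.ker f) ∧
    LocCoh.IsPowerTorsion (maximalIdeal A) (X ⧸ LinearMap.range f)

/-- Triviality of the punctured Picard group, for modules. -/
def PTm : Prop :=
  ∀ (N : Type u) [AddCommGroup N] [Module A N] [Module.Finite A N], FreeOff A N → Nonempty (D A N ≃ₗ[A] A)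

variable {A}
variable {N : Type u} [AddCommGroup N] [Module A N]
variable {M : Type u} [AddCommGroup M] [Module A M] {X : Type u} [AddCommGroup X] [Module A X]

omit [IsLocalRing A] in
theorem free1_of_le {p q : PrimeSpectrum A} (h : p ≤ q) (hq : Free1 A N q) : Free1 A N p :=
  let ⟨u, s, hs, h1, h2⟩ := hq
  ⟨u, s, fun hp => hs (h hp), h1, h2⟩

omit [IsLocalRing A] in
theorem free1_of_pointwise [IsNoetherianRing A] [Module.Finite A N] (p : PrimeSpectrum A) (u : N)
    (h1 : ∀ x, ∃ s ∉ p.asIdeal, ∃ c : A, s • x = c • u) (h2 : ∀ c : A, c • u = 0 → ∃ s ∉ p.asIdeal, s * c = 0) :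
    Free1 A N p := by
  classical
  obtain ⟨T, hT⟩ := (Module.Finite.fg_top (R := A) (M := N))
  obtain ⟨G, hG⟩ := (IsNoetherian.noetherian (LinearMap.ker (LinearMap.toSpanSingleton A N u)))
  choose s hs c hc using h1
  have h2' : ∀ g ∈ G, ∃ t ∉ p.asIdeal, t * g = 0 := fun g hg =>
    h2 g (LinearMap.mem_ker.1 (hG ▸ Submodule.subset_span hg) : _)
  choose t ht ht0 using h2'
  refine ⟨u, (∏ x ∈ T, s x) * ∏ g ∈ G.attach, t g.1 g.2, fun h => ?_, fun x => ?_, fun a ha => ?_⟩
  · rcases p.isPrime.mem_or_mem h with h | h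
    · obtain ⟨x, -, hx⟩ := (p.isPrime.prod_mem_iff).1 h
      exact hs x hx
    · obtain ⟨g, -, hg⟩ := (p.isPrime.prod_mem_iff).1 h
      exact ht g.1 g.2 hg
  · have hmem : x ∈ (Submodule.span A {u}).comap (((∏ x ∈ T, s x) * ∏ g ∈ G.attach, t g.1 g.2) • LinearMap.id) := by
      refine (hT.ge.trans (Submodule.span_le.2 fun y hy => ?_)) trivial
      refine Submodule.mem_comap.2 (Submodule.mem_span_singleton.2 ?_)
      rw [← Finset.mul_prod_erase T s hy]
      refine ⟨((∏ z ∈ T.erase y, s z) * ∏ g ∈ G.attach, t g.1 g.2) * c y, ?_⟩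
      rw [LinearMap.smul_apply, LinearMap.id_apply, mul_smul, ← hc, ← mul_smul]
      congr 1
      ring
    obtain ⟨c', hc'⟩ := Submodule.mem_span_singleton.1 (Submodule.mem_comap.1 hmem)
    exact ⟨c', hc'.symm⟩
  · have hmem : a ∈ LinearMap.ker (LinearMap.mulLeft A ((∏ x ∈ T, s x) * ∏ g ∈ G.attach, t g.1 g.2)) := by
      have ha' : a ∈ LinearMap.ker (LinearMap.toSpanSingleton A N u) := ha
      rw [← hG] at ha'
      refine Submodule.span_le.2 (fun g hg => ?_) ha'
      rw [SetLike.mem_coe, LinearMap.mem_ker, LinearMap.mulLeft_apply,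
        ← Finset.mul_prod_erase G.attach (fun g => t g.1 g.2) (Finset.mem_attach G ⟨g, hg⟩)]
      calc _ = (∏ x ∈ T, s x) * (∏ g ∈ G.attach.erase ⟨g, hg⟩, t g.1 g.2) * (t g hg * g) := by ring
        _ = 0 := by rw [ht0, mul_zero]
    exact hmem

omit [IsLocalRing A] in
/-- A function which is the square of a nonvanishing element on the generator. -/
theorem exists_func (u : N) (s : A) (h1 : ∀ x, ∃ c : A, s • x = c • u) (h2 : ∀ c : A, c • u = 0 → s * c = 0) :
    ∃ ψ : N →ₗ[A] A, ψ u = s * s ∧ ∀ x, ψ x • u = (s * s) • x := by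
  choose c hc using h1
  have key : ∀ x a, s • x = a • u → s * c x = s * a := fun x a h => by
    refine sub_eq_zero.1 ?_
    rw [← mul_sub]
    exact h2 _ (by rw [sub_smul, ← hc, ← h, sub_self])
  refine ⟨{ toFun := fun x => s * c x
            map_add' := fun x y => by
              rw [← mul_add]
              exact key _ _ (by rw [smul_add, hc, hc, add_smul])
            map_smul' := fun a x => by
              rw [RingHom.id_apply, smul_eq_mul, key (a • x) (a * c x) (by rw [smul_comm, hc, mul_smul])]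
              ring }, key u s rfl, fun x => ?_⟩
  show (s * c x) • u = _
  rw [mul_smul, ← hc, mul_smul]

theorem freeOff_of_locData [IsNoetherianRing A] [Module.Finite A N] (h : LocData A N) : FreeOff A N := by
  intro p hp
  obtain ⟨g, u, ψ, k, -, hg, -, h1, h2⟩ := h p hp
  exact free1_of_pointwise p u (fun x => let ⟨l, c, hc⟩ := h1 x
      ⟨g ^ l, fun hl => hg (p.isPrime.mem_of_pow_mem _ hl), c, hc⟩)
    fun c hc => let ⟨l, hl⟩ := h2 c hc
      ⟨g ^ l, fun h' => hg (p.isPrime.mem_of_pow_mem _ h'), hl⟩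

theorem locData_of_freeOff (h : FreeOff A N) : LocData A N := by
  intro p hp
  obtain ⟨u, s, hs, h1, h2⟩ := h p hp
  obtain ⟨a, ham, hap⟩ := SetLike.not_le_iff_exists.1 hp
  have h1' : ∀ x, ∃ c : A, (a * s) • x = c • u := fun x => by
    obtain ⟨c, hc⟩ := h1 x
    exact ⟨a * c, by rw [mul_smul, hc, mul_smul]⟩
  have h2' : ∀ c : A, c • u = 0 → a * s * c = 0 := fun c hc => by rw [mul_assoc, h2 c hc, mul_zero]
  obtain ⟨ψ, hψ, -⟩ := exists_func u (a * s) h1' h2'
  exact ⟨a * s, u, ψ, 2, Ideal.mul_mem_right _ _ ham,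
    fun h => (p.isPrime.mem_or_mem h).elim hap hs, hψ.trans (pow_two _).symm,
    fun x => let ⟨c, hc⟩ := h1' x; ⟨1, c, by rw [pow_one, hc]⟩,
    fun c hc => ⟨1, by rw [pow_one, h2' c hc]⟩⟩

theorem fac_of_freeOff (h : FreeOff A N) : Fac A N := by
  classical
  intro a ha
  let S : Set A := {b | ∃ (ψ : N →ₗ[A] A) (u : N), ∀ x, ψ x • u = b • x}
  have hmem : a ∈ (Ideal.span S).radical := by
    rw [Ideal.radical_eq_sInf, Submodule.mem_sInf]
    rintro P ⟨hle, hP⟩
    by_contra haP
    obtain ⟨u, s, hs, h1, h2⟩ := h ⟨P, hP⟩ fun hm => haP (hm ha)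
    obtain ⟨ψ, -, hψ⟩ := exists_func u s h1 h2
    exact (hP.mem_or_mem (hle (Ideal.subset_span ⟨ψ, u, hψ⟩))).elim hs hs
  obtain ⟨k, hk⟩ := hmem
  obtain ⟨r, c, b, hb⟩ := Submodule.mem_span_set'.1 hk
  choose ψ u hψ using fun j : Fin r => (b j).2
  refine ⟨r, k, LinearMap.pi ψ, Fintype.linearCombination A fun j => c j • u j, LinearMap.ext fun x => ?_⟩
  rw [LinearMap.comp_apply, Fintype.linearCombination_apply, LinearMap.smul_apply, LinearMap.id_apply, ← hb,
    Finset.sum_smul]
  refine Finset.sum_congr rfl fun j _ => ?_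
  rw [LinearMap.pi_apply, smul_comm, hψ, smul_eq_mul, mul_smul]

theorem freeOff_dual [IsNoetherianRing A] [Module.Finite A N] (h : FreeOff A N) : FreeOff A (D A N) := by
  intro p hp
  obtain ⟨u, s, hs, h1, h2⟩ := h p hp
  obtain ⟨ψ, hψ, hψ'⟩ := exists_func u s h1 h2
  refine free1_of_pointwise p ψ (fun φ => ⟨s * s, fun h' => (p.isPrime.mem_or_mem h').elim hs hs, φ u, ?_⟩)
    fun c hc => ⟨s * s, fun h' => (p.isPrime.mem_or_mem h').elim hs hs, ?_⟩
  · refine LinearMap.ext fun x => ?_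
    rw [LinearMap.smul_apply, LinearMap.smul_apply, ← map_smul, ← hψ', map_smul, smul_eq_mul, smul_eq_mul, mul_comm]
  · rw [mul_comm, ← hψ]
    exact LinearMap.congr_fun hc u

theorem isPowerTorsion_of_local [IsNoetherianRing A]
    (h : ∀ x : X, ∀ p : PrimeSpectrum A, ¬ maximalIdeal A ≤ p.asIdeal → ∃ s ∉ p.asIdeal, s • x = 0) :
    LocCoh.IsPowerTorsion (maximalIdeal A) X := by
  intro x
  have hle : maximalIdeal A ≤ Ideal.radical (LinearMap.ker (LinearMap.toSpanSingleton A X x) : Ideal A) := by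
    intro a ha
    obtain ⟨k, hk⟩ := exists_pow_smul_mem (⊥ : Submodule A X) x
      (fun p hp => let ⟨s, hs, hsx⟩ := h x p hp; ⟨s, hs, (Submodule.mem_bot A).2 hsx⟩) a ha
    exact ⟨k, (Submodule.mem_bot A).1 hk⟩
  obtain ⟨n, hn⟩ := Ideal.exists_pow_le_of_le_radical_of_fg hle (IsNoetherian.noetherian (maximalIdeal A))
  exact ⟨n, fun a ha => hn ha⟩

theorem isoOff_eval [IsNoetherianRing A] (h : FreeOff A N) : IsoOff A (Module.Dual.eval A N) := by
  constructor
  · refine isPowerTorsion_of_local fun x p hp => ?_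
    obtain ⟨u, s, hs, h1, h2⟩ := h p hp
    obtain ⟨ψ, -, hψ⟩ := exists_func u s h1 h2
    refine ⟨s * s, fun h' => (p.isPrime.mem_or_mem h').elim hs hs, Subtype.ext ?_⟩
    have h0 : ψ (x : N) = 0 := LinearMap.congr_fun (LinearMap.mem_ker.1 x.2) ψ
    rw [Submodule.coe_smul, ← hψ, h0, zero_smul]
    rfl
  · refine isPowerTorsion_of_local fun q p hp => ?_
    obtain ⟨F, rfl⟩ := Submodule.Quotient.mk_surjective _ q
    obtain ⟨u, s, hs, h1, h2⟩ := h p hp
    obtain ⟨ψ, hψu, hψ⟩ := exists_func u s h1 h2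
    refine ⟨s * s, fun h' => (p.isPrime.mem_or_mem h').elim hs hs, ?_⟩
    rw [← Submodule.Quotient.mk_smul, Submodule.Quotient.mk_eq_zero]
    refine ⟨F ψ • u, LinearMap.ext fun φ => ?_⟩
    have h3 : (s * s) • φ = φ u • ψ := LinearMap.ext fun x => by
      rw [LinearMap.smul_apply, LinearMap.smul_apply, ← map_smul, ← hψ, map_smul, smul_eq_mul, smul_eq_mul, mul_comm]
    show φ (F ψ • u) = (s * s) • F φ
    rw [← map_smul F, h3, map_smul, map_smul, smul_eq_mul, smul_eq_mul, mul_comm]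

omit [IsLocalRing A] in
theorem eq_zero_of_pow_smul {J : Ideal A} (h : powTors J X = ⊥) {x : X} {n : ℕ} (hx : ∀ r ∈ J ^ n, r • x = 0) :
    x = 0 := by
  rw [← Submodule.mem_bot A, ← h, mem_powTors_iff]
  exact ⟨n, hx⟩

theorem Good.powTors_eq (hX : Good A X) : powTors (maximalIdeal A) X = ⊥ := (subsingleton_zero_iff _).1 hX.1

variable [IsNoetherianRing A]

theorem good_dual [Module.Finite A N] (hd : (2 : ℕ∞) ≤ LocCoh.depth A A) : Good A (D A N) :=
  have h := (van_iff_natCast_le_depth (A := A) (X := A) 2).2 hd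
  ⟨van_zero_hom (h 0 (by omega)), van_one_hom (h 0 (by omega)) (h 1 (by omega))⟩

/-- Compatible divisions by a power of the maximal ideal. -/
theorem exists_eq_smul (hX : Good A X) (n : ℕ) (F : ↥(maximalIdeal A ^ n) →ₗ[A] X) :
    ∃ y : X, ∀ r : ↥(maximalIdeal A ^ n), (r : A) • y = F r := by
  let m := maximalIdeal A
  have hS := shortExact_mk (m ^ n).subtype (m ^ n).mkQ (m ^ n).injective_subtype (Submodule.mkQ_surjective _)
    (LinearMap.exact_subtype_mkQ _)
  have hsupp : Module.support A (A ⧸ m ^ n) ⊆ PrimeSpectrum.zeroLocus (m : Set A) := by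
    intro p hp
    rw [Module.support_eq_zeroLocus, Ideal.annihilator_quotient, PrimeSpectrum.mem_zeroLocus] at hp
    exact (PrimeSpectrum.mem_zeroLocus _ _).2 fun a ha =>
      p.isPrime.mem_of_pow_mem n (hp (Ideal.pow_mem_pow ha n))
  have h1 := (vanishing_below_iff (I := m) (ModuleCat.of A X) 2).1
    (fun i hi => by interval_cases i <;> [exact hX.1; exact hX.2]) (A ⧸ m ^ n) hsupp 1 (by omega)
  obtain ⟨ψ, hψ⟩ := ParaGr27.exists_extend hS (ModuleCat.ofHom F) h1
  let ψ' : A →ₗ[A] X := ψ.hom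
  refine ⟨ψ' 1, fun r => ?_⟩
  rw [← map_smul, smul_eq_mul, mul_one]
  exact LinearMap.congr_fun (congrArg ModuleCat.Hom.hom hψ) r

theorem eq_of_comp_eq (hX : powTors (maximalIdeal A) X = ⊥) {j : N →ₗ[A] M}
    (hQ : LocCoh.IsPowerTorsion (maximalIdeal A) (M ⧸ LinearMap.range j)) {f g : M →ₗ[A] X}
    (h : f ∘ₗ j = g ∘ₗ j) : f = g := LinearMap.ext fun x => by
  obtain ⟨n, hn⟩ := hQ (Submodule.Quotient.mk x)
  refine sub_eq_zero.1 (eq_zero_of_pow_smul hX (n := n) fun r hr => ?_)
  obtain ⟨y, hy⟩ := (Submodule.Quotient.mk_eq_zero _).1 ((Submodule.Quotient.mk_smul _ r x).trans (hn r hr))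
  rw [smul_sub, ← map_smul, ← map_smul, ← hy, sub_eq_zero]
  exact LinearMap.congr_fun h y

/-- Extension of maps into a depth two module along a map which is an isomorphism off the closed point. -/
theorem exists_extend_isoOff (hX : Good A X) {j : N →ₗ[A] M} (hj : IsoOff A j) (f : N →ₗ[A] X) :
    ∃ g : M →ₗ[A] X, g ∘ₗ j = f := by
  have hle : LinearMap.ker j ≤ LinearMap.ker f := fun x hx => by
    obtain ⟨n, hn⟩ := hj.1 ⟨x, hx⟩
    refine eq_zero_of_pow_smul hX.powTors_eq (n := n) fun r hr => ?_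
    rw [← map_smul, show r • x = 0 from congrArg Subtype.val (hn r hr), map_zero]
  let f' : ↥(LinearMap.range j) →ₗ[A] X :=
    (LinearMap.ker j).liftQ f hle ∘ₗ j.quotKerEquivRange.symm.toLinearMap
  have hf' : ∀ x, f' ⟨j x, LinearMap.mem_range_self j x⟩ = f x := fun x => by
    simp only [f', LinearMap.comp_apply, LinearEquiv.coe_coe]
    rw [show j.quotKerEquivRange.symm ⟨j x, LinearMap.mem_range_self j x⟩ = Submodule.Quotient.mk x from
      j.quotKerEquivRange.symm_apply_eq.2 (Subtype.ext rfl), Submodule.liftQ_apply]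
  have hex : ∀ x : M, ∃! y : X, ∃ n : ℕ, ∀ r ∈ maximalIdeal A ^ n, ∃ h : r • x ∈ LinearMap.range j,
      r • y = f' ⟨r • x, h⟩ := fun x => by
    obtain ⟨n, hn⟩ := hj.2 (Submodule.Quotient.mk x)
    have hmem : ∀ r ∈ maximalIdeal A ^ n, r • x ∈ LinearMap.range j := fun r hr =>
      (Submodule.Quotient.mk_eq_zero _).1 ((Submodule.Quotient.mk_smul _ r x).trans (hn r hr))
    obtain ⟨y, hy⟩ := exists_eq_smul hX n (f' ∘ₗ LinearMap.codRestrict _
      ((LinearMap.toSpanSingleton A M x) ∘ₗ (maximalIdeal A ^ n).subtype) fun r => hmem r r.2)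
    refine ⟨y, ⟨n, fun r hr => ⟨hmem r hr, hy ⟨r, hr⟩⟩⟩, fun z ⟨k, hk⟩ => ?_⟩
    refine sub_eq_zero.1 (eq_zero_of_pow_smul hX.powTors_eq (n := n + k) fun r hr => ?_)
    have hrn := Ideal.pow_le_pow_right (Nat.le_add_right n k) hr
    obtain ⟨h, hz⟩ := hk r (Ideal.pow_le_pow_right (Nat.le_add_left k n) hr)
    rw [smul_sub, hz, sub_eq_zero]
    exact (hy ⟨r, hrn⟩).symm
  choose g hg huniq using hex
  let G : M →ₗ[A] X :=
    { toFun := g
      map_add' := fun x y => by
        obtain ⟨a, ha⟩ := hg x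
        obtain ⟨b, hb⟩ := hg y
        refine (huniq (x + y) _ ⟨a + b, fun r hr => ?_⟩).symm
        obtain ⟨h1, h1'⟩ := ha r (Ideal.pow_le_pow_right (Nat.le_add_right a b) hr)
        obtain ⟨h2, h2'⟩ := hb r (Ideal.pow_le_pow_right (Nat.le_add_left b a) hr)
        refine ⟨by rw [smul_add]; exact add_mem h1 h2, ?_⟩
        rw [smul_add, h1', h2', ← map_add]
        exact congrArg f' (Subtype.ext (smul_add r x y).symm)
      map_smul' := fun c x => by
        obtain ⟨a, ha⟩ := hg x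
        refine (huniq (c • x) _ ⟨a, fun r hr => ?_⟩).symm
        obtain ⟨h1, h1'⟩ := ha r hr
        refine ⟨by rw [smul_comm]; exact Submodule.smul_mem _ c h1, ?_⟩
        rw [RingHom.id_apply, smul_comm, h1', ← map_smul]
        exact congrArg f' (Subtype.ext (smul_comm r c x).symm) }
  refine ⟨G, LinearMap.ext fun x => (huniq (j x) (f x) ⟨0, fun r _ => ⟨⟨r • x, map_smul j r x⟩, ?_⟩⟩).symm⟩
  rw [← hf', ← map_smul]
  rfl

theorem bijective_of_isoOff (hM : Good A M) (hX : Good A X) {f : M →ₗ[A] X} (hf : IsoOff A f) :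
    Function.Bijective f := by
  obtain ⟨g, hg⟩ := exists_extend_isoOff hM hf LinearMap.id
  have h2 : f ∘ₗ g = LinearMap.id := eq_of_comp_eq hX.powTors_eq hf.2 (by
    rw [LinearMap.comp_assoc, hg, LinearMap.comp_id, LinearMap.id_comp])
  exact ⟨Function.LeftInverse.injective (g := g) (LinearMap.congr_fun hg),
    Function.RightInverse.surjective (g := g) (LinearMap.congr_fun h2)⟩

theorem precomp_bijective (hX : Good A X) {j : N →ₗ[A] M} (hj : IsoOff A j) :
    Function.Bijective fun f : M →ₗ[A] X => f ∘ₗ j :=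
  ⟨fun _ _ h => eq_of_comp_eq hX.powTors_eq hj.2 h, fun f => exists_extend_isoOff hX hj f⟩

section BaseChange

variable (A) (S : Type u) [CommRing S] [Algebra A S]

/-- The comparison `S ⊗ Hom(N, A) → Hom(N, S)`. -/
abbrev homComparison (N : Type u) [AddCommGroup N] [Module A N]  :
    S ⊗[A] (N →ₗ[A] A) →ₗ[S] (N →ₗ[A] S) :=
  IsBaseChange.linearMapRightBaseChangeHom S N (Algebra.linearMap A S)

omit [IsLocalRing A] in
theorem homComparison_bijective [Module.Flat A S] [Module.Finite A N] :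
    Function.Bijective (homComparison A S N) := by
  obtain ⟨r, π, hπ⟩ := Module.Finite.exists_fin' A N
  obtain ⟨s, σ₀, hσ₀⟩ := Module.Finite.exists_fin' A (LinearMap.ker π)
  let σ : (Fin s → A) →ₗ[A] (Fin r → A) := (LinearMap.ker π).subtype ∘ₗ σ₀
  have hbF : ∀ k : ℕ, Function.Bijective (homComparison A S (Fin k → A)) := fun k =>
    (IsBaseChange.linearMapRightBaseChangeEquiv (Fin k → A) (IsBaseChange.linearMap A S)).bijective
  let a : (N →ₗ[A] A) →ₗ[A] ((Fin r → A) →ₗ[A] A) := LinearMap.lcomp A A π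
  let b : ((Fin r → A) →ₗ[A] A) →ₗ[A] ((Fin s → A) →ₗ[A] A) := LinearMap.lcomp A A σ
  have hfac : ∀ {Y : Type u} [AddCommGroup Y] [Module A Y] (v : (Fin r → A) →ₗ[A] Y), v ∘ₗ σ = 0 →
      ∃ f : N →ₗ[A] Y, f ∘ₗ π = v := fun {Y} _ _ v hv => by
    have hle : LinearMap.ker π ≤ LinearMap.ker v := fun k hk => by
      obtain ⟨z, hz⟩ := hσ₀ ⟨k, hk⟩
      have := LinearMap.congr_fun hv z
      rw [LinearMap.comp_apply, LinearMap.comp_apply, hz] at this
      exact this
    refine ⟨(LinearMap.ker π).liftQ _ hle ∘ₗ (π.quotKerEquivOfSurjective hπ).symm.toLinearMap, LinearMap.ext fun x => ?_⟩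
    show (LinearMap.ker π).liftQ _ hle ((π.quotKerEquivOfSurjective hπ).symm (π x)) = _
    rw [show (π.quotKerEquivOfSurjective hπ).symm (π x) = Submodule.Quotient.mk x from
      (π.quotKerEquivOfSurjective hπ).injective (by simp), Submodule.liftQ_apply]
  have hσπ : π ∘ₗ σ = 0 := LinearMap.ext fun z => LinearMap.mem_ker.1 (σ₀ z).2
  have hab : Function.Exact a b := fun v => ⟨fun h => hfac v h, by
    rintro ⟨f, rfl⟩
    show (f ∘ₗ π) ∘ₗ σ = 0
    rw [LinearMap.comp_assoc, hσπ, LinearMap.comp_zero]⟩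
  have ha : Function.Injective a := fun f g h => (LinearMap.cancel_right hπ).1 h
  have hc1 : ∀ z, homComparison A S N z ∘ₗ π = homComparison A S (Fin r → A) (a.lTensor S z) := fun z => by
    induction z using TensorProduct.induction_on with
    | zero => simp
    | tmul t f => exact LinearMap.ext fun x => rfl
    | add x y hx hy => rw [map_add, LinearMap.add_comp, hx, hy, map_add, map_add]
  have hc2 : ∀ w, homComparison A S (Fin r → A) w ∘ₗ σ = homComparison A S (Fin s → A) (b.lTensor S w) := fun w => by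
    induction w using TensorProduct.induction_on with
    | zero => simp
    | tmul t f => exact LinearMap.ext fun x => rfl
    | add x y hx hy => rw [map_add, LinearMap.add_comp, hx, hy, map_add, map_add]
  refine ⟨(injective_iff_map_eq_zero _).2 fun z hz => ?_, fun g => ?_⟩
  · have h1 := hc1 z
    rw [hz, LinearMap.zero_comp] at h1
    exact (injective_iff_map_eq_zero _).1 (Module.Flat.lTensor_preserves_injective_linearMap a ha) z
      ((injective_iff_map_eq_zero _).1 (hbF r).1 _ h1.symm)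
  · obtain ⟨w, hw⟩ := (hbF r).2 (g ∘ₗ π)
    have h2 := hc2 w
    rw [hw, LinearMap.comp_assoc, hσπ, LinearMap.comp_zero] at h2
    obtain ⟨z, rfl⟩ := (Module.Flat.lTensor_exact S hab w).1 ((injective_iff_map_eq_zero _).1 (hbF s).1 _ h2.symm)
    exact ⟨z, (LinearMap.cancel_right hπ).1 ((hc1 z).trans hw)⟩

end BaseChange

end Groth.Agent.CIPic27
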