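import Groth.Agent.Lib.CIPic27.Final
import Groth.Prelude.Def_Formal2

/-!
# Restriction of invertible modules to a hypersurface of the punctured spectrum
-/

set_option autoImplicit false
set_option linter.style.haveILetI false

universe u

open IsLocalRing AlgebraicGeometry CategoryTheory
open scoped TensorProduct

noncomputable section

namespace Groth.Agent.CIPic27

open Groth.Agent.ParaGr27 Groth.Agent.LocCohLib Groth.Agent.InjHullLib Groth.Agent.M1

variable {A : Type u} [CommRing A] [IsLocalRing A] [IsNoetherianRing A] {t : A}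

omit [IsLocalRing A] [IsNoetherianRing A] in
theorem exists_gr_equiv (hreg : ∀ x : A, t * x = 0 → x = 0) (n : ℕ) :
    Nonempty (Gr (Ideal.span {t}) n ≃ₗ[A] Qn (Ideal.span {t}) 0) := by
  let J := Ideal.span {t}
  let φ : A →ₗ[A] Gr J n := LinearMap.codRestrict _
    ((J ^ (n + 1 + 1)).mkQ ∘ₗ LinearMap.toSpanSingleton A A (t ^ (n + 1))) fun a =>
      ⟨a • t ^ (n + 1), Ideal.mul_mem_left _ _ (Ideal.pow_mem_pow (Ideal.mem_span_singleton_self t) _), rfl⟩
  have hφ : Function.Surjective φ := by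
    rintro ⟨_, b, hb, rfl⟩
    obtain ⟨a, rfl⟩ := Ideal.mem_span_singleton'.1 ((Ideal.span_singleton_pow t (n + 1)).le hb)
    exact ⟨a, rfl⟩
  have hker : LinearMap.ker φ = J ^ (0 + 1) := by
    ext a
    rw [LinearMap.mem_ker, Subtype.ext_iff, zero_add, pow_one, Ideal.mem_span_singleton]
    show Submodule.Quotient.mk (a * t ^ (n + 1)) = 0 ↔ _
    rw [Submodule.Quotient.mk_eq_zero, Ideal.span_singleton_pow, Ideal.mem_span_singleton]
    refine ⟨fun ⟨c, hc⟩ => ⟨c, sub_eq_zero.1 (reg_pow hreg (n + 1) _ ?_)⟩, fun ⟨c, hc⟩ => ⟨c, ?_⟩⟩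
    · rw [mul_sub, mul_comm, hc]
      ring
    · rw [hc]
      ring
  exact ⟨(φ.quotKerEquivOfSurjective hφ).symm.trans (Submodule.quotEquivOfEq _ _ hker)⟩

omit [IsNoetherianRing A] in
theorem grFree_span_regular (hreg : ∀ x : A, t * x = 0 → x = 0) : GrFree (Ideal.span {t}) := fun n =>
  ⟨1, ⟨(exists_gr_equiv hreg n).some.trans (LinearEquiv.funUnique (Fin 1) A _).symm⟩⟩

/-- An isomorphism off the closed point gives an isomorphism of sheaves on the punctured spectrum. -/
theorem nonempty_punct_iso_of_isoOff {M X : Type u} [AddCommGroup M] [Module A M] [AddCommGroup X] [Module A X]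
    {ψ : M →ₗ[A] X} (h : IsoOff A ψ) :
    Nonempty ((tilde (R := CommRingCat.of A) (ModuleCat.of A M)).restrict (LocCoh.puncturedOpen A (maximalIdeal A)).ι ≅
      (tilde (R := CommRingCat.of A) (ModuleCat.of A X)).restrict (LocCoh.puncturedOpen A (maximalIdeal A)).ι) := by
  classical
  obtain ⟨gs, hgs⟩ : (maximalIdeal A).FG := IsNoetherian.noetherian _
  refine ⟨@asIso _ _ _ _ _ (PunctFree27.isIso_restrict_tilde_map (maximalIdeal A) (M₀ := ModuleCat.of A M)
    (M := ModuleCat.of A X) (ModuleCat.ofHom ψ) gs hgs fun a ha => ?_)⟩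
  have ham : a ∈ maximalIdeal A := hgs ▸ Submodule.subset_span ha
  refine ⟨(injective_iff_map_eq_zero _).2 fun y hy => ?_, fun y => ?_⟩
  · induction y using LocalizedModule.induction_on with
    | h x s =>
      rw [LocalizedModule.map_mk, PunctFree27.mk_eq_zero_iff'] at hy
      obtain ⟨⟨_, l, rfl⟩, hl⟩ := hy
      obtain ⟨k, hk⟩ := h.1 ⟨a ^ l • x, by rw [LinearMap.mem_ker, map_smul]; exact hl⟩
      rw [PunctFree27.mk_eq_zero_iff']
      refine ⟨⟨a ^ (k + l), k + l, rfl⟩, ?_⟩
      show a ^ (k + l) • x = 0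
      rw [pow_add, mul_smul]
      exact congrArg Subtype.val (hk _ (Ideal.pow_mem_pow ham k))
  · induction y using LocalizedModule.induction_on with
    | h m s =>
      obtain ⟨k, hk⟩ := h.2 (Submodule.Quotient.mk m)
      obtain ⟨x, hx⟩ := (Submodule.Quotient.mk_eq_zero _).1
        ((Submodule.Quotient.mk_smul _ (a ^ k) m).trans (hk _ (Ideal.pow_mem_pow ham k)))
      refine ⟨LocalizedModule.mk x ((⟨a ^ k, k, rfl⟩ : Submonoid.powers a) * s), ?_⟩
      rw [LocalizedModule.map_mk]
      show LocalizedModule.mk (ψ x) _ = _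
      rw [hx]
      exact LocalizedModule.mk_cancel_common_left (⟨a ^ k, k, rfl⟩ : Submonoid.powers a) s m

theorem freeOff_quotient {N : Type u} [AddCommGroup N] [Module A N] [IsLocalRing (A ⧸ Ideal.span {t})]
    (h : FreeOff A N) : FreeOff (A ⧸ Ideal.span {t}) ((A ⧸ Ideal.span {t}) ⊗[A] N) := fun Q hQ =>
  free1_baseChange Q (h _ fun hm => hQ fun z hz => by
    obtain ⟨a, rfl⟩ := Ideal.Quotient.mk_surjective z
    exact hm ((IsLocalRing.eq_maximalIdeal (Ideal.comap_isMaximal_of_surjective (K := maximalIdeal (A ⧸ Ideal.span {t}))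
      (Ideal.Quotient.mk (Ideal.span {t})) Ideal.Quotient.mk_surjective)).le hz))

/-- The closed immersion of the punctured spectra. -/
abbrev hyp (A : Type u) [CommRing A] [IsLocalRing A] (t : A) :=
  Spec.map (CommRingCat.ofHom (Ideal.Quotient.mk (Ideal.span {t}))) ∣_ LocCoh.puncturedOpen A (maximalIdeal A)

/-- Pullback of the sheaf of a module to the hypersurface. -/
theorem nonempty_pullback_hyp_iso (N : Type u) [AddCommGroup N] [Module A N] :
    Nonempty ((Scheme.Modules.pullback (hyp A t)).obj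
        ((tilde (R := CommRingCat.of A) (ModuleCat.of A N)).restrict (LocCoh.puncturedOpen A (maximalIdeal A)).ι) ≅
      (tilde (R := CommRingCat.of (A ⧸ Ideal.span {t})) (ModuleCat.of (A ⧸ Ideal.span {t}) ((A ⧸ Ideal.span {t}) ⊗[A] N))).restrict
        (Spec.map (CommRingCat.ofHom (Ideal.Quotient.mk (Ideal.span {t}))) ⁻¹ᵁ LocCoh.puncturedOpen A (maximalIdeal A)).ι) :=
  ⟨(Twist.pullbackRestrictIso _ _ _).symm ≪≫ (Scheme.Modules.restrictFunctor _).mapIso
    (tildePullbackObjIso (CommRingCat.ofHom (Ideal.Quotient.mk (Ideal.span {t}))) (ModuleCat.of A N))⟩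

variable [IsLocalRing (A ⧸ Ideal.span {t})]

theorem hyp_injective (ht : t ∈ maximalIdeal A) (hreg : ∀ x : A, t * x = 0 → x = 0)
    (hd : (3 : ℕ∞) ≤ LocCoh.depth (A ⧸ Ideal.span {t}) (A ⧸ Ideal.span {t})) :
    Formal2.PicPullbackInjective (hyp A t) := by
  intro L hL hLp
  obtain ⟨i⟩ := hLp
  let J := Ideal.span {t}
  let B := A ⧸ J
  have hs : Function.Surjective (algebraMap A B) := Ideal.Quotient.mk_surjective
  have hJ : J ≠ ⊤ := fun h => (maximalIdeal.isMaximal A).ne_top (top_le_iff.1 (h ▸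
    (Ideal.span_singleton_le_iff_mem _).2 ht))
  obtain ⟨N, _, hproj, ⟨eN⟩⟩ := PunctFree27.exists_model (maximalIdeal A) L (IsNoetherian.noetherian _)
    (M2.isFinLocFree_of_isInvertible hL)
  haveI : Module.Finite A N := inferInstance
  have hfree : FreeOff A N := freeOff_of_invertible hproj (Twist.isInvertible_of_iso eN.symm hL)
  obtain ⟨eP⟩ := nonempty_pullback_hyp_iso (t := t) (N : Type u)
  let V := Spec.map (CommRingCat.ofHom (Ideal.Quotient.mk J)) ⁻¹ᵁ LocCoh.puncturedOpen A (maximalIdeal A)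
  have he : Nonempty ((tilde (R := CommRingCat.of B) (ModuleCat.of B (B ⊗[A] N))).restrict V.ι ≅
      (tilde (R := CommRingCat.of B) (ModuleCat.of B B)).restrict V.ι) :=
    ⟨eP.symm ≪≫ (Scheme.Modules.pullback (hyp A t)).mapIso eN ≪≫ i ≪≫ (Scheme.Modules.restrictUnitIso _).symm ≪≫
      (Scheme.Modules.restrictFunctor _).mapIso (tildeSelf (R := CommRingCat.of B)).symm⟩
  change Nonempty ((tilde (R := CommRingCat.of B) (ModuleCat.of B (B ⊗[A] N))).restrict
      (Spec.map (CommRingCat.ofHom (Ideal.Quotient.mk J)) ⁻¹ᵁ LocCoh.puncturedOpen A (maximalIdeal A)).ι ≅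
      (tilde (R := CommRingCat.of B) (ModuleCat.of B B)).restrict
        (Spec.map (CommRingCat.ofHom (Ideal.Quotient.mk J)) ⁻¹ᵁ LocCoh.puncturedOpen A (maximalIdeal A)).ι) at he
  rw [preimage_puncturedOpen (Ideal.Quotient.mk J) Ideal.Quotient.mk_surjective] at he
  obtain ⟨e⟩ := he
  have hvB : ∀ j < 3, Van B B j := (van_iff_natCast_le_depth 3).2 hd
  have hgB : Good B B := ⟨hvB 0 (by omega), hvB 1 (by omega)⟩
  obtain ⟨ψ, hψ⟩ := exists_hom_of_punct_iso hgB e
  let e₀ : (N →ₗ[A] B) ≃ₗ[B] B := (LinearMap.liftBaseChangeEquiv B).trans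
    ((LinearEquiv.ofBijective (LinearMap.lcomp B B ψ) (precomp_bijective hgB hψ)).symm.trans
      (LinearMap.ringLmapEquivSelf B B B))
  let q1 : B ≃ₗ[A] Qn J 0 := Submodule.quotEquivOfEq _ _ (pow_one J).symm
  let e1 : (N →ₗ[A] Qn J 0) ≃ₗ[A] Qn J 0 :=
    (LinearEquiv.congrRight q1.symm).trans ((e₀.restrictScalars A).trans q1)
  have hdQ : ∀ j < 3, Van A (Qn J 0) j := fun j hj => by
    have h1 : ∀ j < 3, Van A B j := (van_iff_natCast_le_depth 3).2 (by
      rw [FlatDepth.depth_eq_of_surjective (A := A) (B := B) (M := B) hs]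
      exact hd)
    exact @Equiv.subsingleton _ _ (hcongr _ j q1.symm).toEquiv (h1 j hj)
  obtain ⟨eD⟩ := nonempty_dual_equiv (grFree_span_regular hreg) hdQ (fac_of_freeOff hfree) e1 hJ
  obtain ⟨j⟩ := nonempty_iso_of_dual_equiv (locData_of_freeOff hfree) eD
  exact ⟨eN.symm ≪≫ j⟩

theorem hyp_surjective [IsAdicComplete (Ideal.span {t}) A] (ht : t ∈ maximalIdeal A)
    (hreg : ∀ x : A, t * x = 0 → x = 0) (hd : (5 : ℕ∞) ≤ LocCoh.depth A A)
    (hloc : ∀ p : PrimeSpectrum A, ¬ maximalIdeal A ≤ p.asIdeal → t ∉ p.asIdeal →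
      (∀ q : PrimeSpectrum A, p ≤ q → t ∈ q.asIdeal → maximalIdeal A ≤ q.asIdeal) →
      PTm (Localization.AtPrime p.asIdeal)) :
    Formal2.PicPullbackSurjective (hyp A t) := by
  intro L' hL'
  let J := Ideal.span {t}
  let B := A ⧸ J
  have hs : Function.Surjective (algebraMap A B) := Ideal.Quotient.mk_surjective
  have hdB : (4 : ℕ∞) ≤ LocCoh.depth B B := natCast_le_depth_quotient (k := 4) ht hreg hd
  haveI : Module.Finite A B := Module.Finite.of_surjective (Algebra.linearMap A B) hs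
  let U0 := LocCoh.puncturedOpen B (maximalIdeal B)
  let V := Spec.map (CommRingCat.ofHom (Ideal.Quotient.mk J)) ⁻¹ᵁ LocCoh.puncturedOpen A (maximalIdeal A)
  have hV : V = U0 := preimage_puncturedOpen (Ideal.Quotient.mk J) Ideal.Quotient.mk_surjective
  suffices key : ∀ L₀ : (↑U0 : Scheme.{u}).Modules, PicF.IsInvertible L₀ →
      ∃ (N : Type u) (_ : AddCommGroup N) (_ : Module A N),
        PicF.IsInvertible ((tilde (R := CommRingCat.of A) (ModuleCat.of A N)).restrict
          (LocCoh.puncturedOpen A (maximalIdeal A)).ι) ∧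
        Nonempty ((tilde (R := CommRingCat.of B) (ModuleCat.of B (B ⊗[A] N))).restrict U0.ι ≅ L₀) by
    rw [← hV] at key
    obtain ⟨N, _, _, hN, ⟨e⟩⟩ := key L' hL'
    obtain ⟨eP⟩ := nonempty_pullback_hyp_iso (t := t) N
    exact ⟨_, hN, ⟨eP ≪≫ e⟩⟩
  intro L₀ hL₀
  obtain ⟨N₀, _, hproj, ⟨eN⟩⟩ := PunctFree27.exists_model (maximalIdeal B) L₀ (IsNoetherian.noetherian _)
    (M2.isFinLocFree_of_isInvertible hL₀)
  haveI : Module.Finite B N₀ := inferInstance
  have hfree₀ : FreeOff B N₀ := freeOff_of_invertible hproj (Twist.isInvertible_of_iso eN.symm hL₀)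
  haveI : Module.Finite B (D B N₀) := finite_dual
  let M₀ := D B (D B N₀)
  haveI : Module.Finite B M₀ := finite_dual
  haveI : Module.Finite A M₀ := Module.Finite.trans (R := A) B M₀
  have hfree : FreeOff B M₀ := freeOff_dual (freeOff_dual hfree₀)
  have hgood : Good A M₀ := (good_iff_of_surjective (A := A) (C := B) hs).2 (good_dual (le_trans (by norm_num) hdB))
  have htB : algebraMap A B t = 0 := Ideal.Quotient.eq_zero_iff_mem.2 (Ideal.mem_span_singleton_self t)
  have hk₀ : ∀ x : M₀, t • x = 0 := fun x => by rw [← algebraMap_smul B, htB, zero_smul]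
  have hm : (maximalIdeal B).comap (algebraMap A B) = maximalIdeal A :=
    IsLocalRing.eq_maximalIdeal (Ideal.comap_isMaximal_of_surjective _ hs)
  have hfree' : ∀ p : PrimeSpectrum A, ¬ maximalIdeal A ≤ p.asIdeal → t ∈ p.asIdeal →
      ∃ (u : M₀) (s : A), s ∉ p.asIdeal ∧ (∀ x, ∃ c : A, s • x = c • u) ∧
        ∀ c : A, c • u = 0 → s * c ∈ Ideal.span {t} := by
    intro p hp htp
    have hle : RingHom.ker (algebraMap A B) ≤ p.asIdeal := by
      rw [Ideal.Quotient.algebraMap_eq, Ideal.mk_ker]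
      exact (Ideal.span_singleton_le_iff_mem _).2 htp
    let P := p.asIdeal.map (algebraMap A B)
    haveI : P.IsPrime := Ideal.map_isPrime_of_surjective hs hle
    have hc : P.comap (algebraMap A B) = p.asIdeal := by
      rw [Ideal.comap_map_of_surjective _ hs, ← RingHom.ker_eq_comap_bot, sup_eq_left.2 hle]
    obtain ⟨u, s', hs', h1, h2⟩ := hfree ⟨P, inferInstance⟩ fun hP => hp (by rw [← hm, ← hc]; exact Ideal.comap_mono hP)
    obtain ⟨s, rfl⟩ := hs s'
    refine ⟨u, s, fun h => hs' (Ideal.mem_map_of_mem _ h), fun x => ?_, fun c hc' => ?_⟩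
    · obtain ⟨c', hc'⟩ := h1 x
      obtain ⟨c, rfl⟩ := hs c'
      exact ⟨c, by rw [← algebraMap_smul B, ← algebraMap_smul B c]; exact hc'⟩
    · have h3 := h2 (algebraMap A B c) (by rw [algebraMap_smul]; exact hc')
      rw [← map_mul] at h3
      exact Ideal.Quotient.eq_zero_iff_mem.1 h3
  let Lv : Lev t 0 :=
    { M := ModuleCat.of A M₀
      finite := inferInstance
      kill := fun x => by
        show t ^ (0 + 1) • (x : M₀) = 0
        rw [pow_one]
        exact hk₀ x
      good := hgood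
      free := fun p hp htp => by
        obtain ⟨u, s, hs', h1, h2⟩ := hfree' p hp htp
        exact ⟨u, s, hs', h1, fun c hc => by rw [zero_add, pow_one]; exact h2 c hc⟩ }
  obtain ⟨X, _, φ, htf, hker, hcok⟩ := exists_model_limit Lv (isFiniteLength_H2 hdB M₀ hfree) ht hreg hd
  change X →ₗ[A] M₀ at φ
  have hXfree : ∀ p : PrimeSpectrum A, ¬ maximalIdeal A ≤ p.asIdeal → t ∈ p.asIdeal → Free1 A X p := by
    intro p hp htp
    obtain ⟨u, s, hs', h1, h2⟩ := hfree' p hp htp
    obtain ⟨r, hrm, hrp⟩ := SetLike.not_le_iff_exists.1 hp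
    obtain ⟨k, hk⟩ := hcok (Submodule.Quotient.mk u)
    obtain ⟨U, hU⟩ := (Submodule.Quotient.mk_eq_zero _).1
      ((Submodule.Quotient.mk_smul _ (r ^ k) (u : Lv.M)).trans (hk _ (Ideal.pow_mem_pow hrm k)))
    change φ U = r ^ k • u at hU
    have hw : r ^ k * s ∉ p.asIdeal := fun h =>
      (p.isPrime.mem_or_mem h).elim (fun h => hrp (p.isPrime.mem_of_pow_mem _ h)) hs'
    refine free1_of_mod p htp (U := U) hw htf (fun x => ?_) fun c hc => ?_
    · obtain ⟨c, hc⟩ := h1 (φ x)
      obtain ⟨y, hy⟩ := hker ((r ^ k * s) • x - c • U) (by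
        show φ _ = 0
        rw [map_sub, map_smul, map_smul, mul_smul, hc, hU, smul_comm, sub_self])
      exact ⟨c, y, eq_add_of_sub_eq' hy⟩
    · obtain ⟨c', hc'⟩ := Ideal.mem_span_singleton'.1 (h2 (c * r ^ k) (by
        rw [mul_smul, ← hU, ← map_smul, hc, map_zero]))
      exact ⟨c', by rw [mul_comm t, hc']; ring⟩
  haveI := finite_D (B := A) (X := X)
  let N := D A (D A X)
  haveI : Module.Finite A N := finite_D
  have hNfree : FreeOff A N := freeOff_dual (freeOff_dual_of_local ht hXfree hloc)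
  refine ⟨N, inferInstance, inferInstance, isInvertible_of_freeOff hNfree, ?_⟩
  -- compare on the hypersurface
  let α : B ⊗[A] X →ₗ[B] M₀ := LinearMap.liftBaseChange B φ
  let β : B ⊗[A] X →ₗ[B] B ⊗[A] N := (Module.Dual.eval A X).baseChange B
  have hsurj : Function.Surjective (TensorProduct.mk A B X 1) := TensorProduct.mk_surjective A X B hs
  have hsurjN : Function.Surjective (TensorProduct.mk A B N 1) := TensorProduct.mk_surjective A N B hs
  have hmn : ∀ (n : ℕ) (b : B), b ∈ maximalIdeal B ^ n → ∃ a ∈ maximalIdeal A ^ n, algebraMap A B a = b := by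
    intro n b hb
    rw [← IsLocalRing.map_maximalIdeal_of_surjective (algebraMap A B) hs, ← Ideal.map_pow,
      Ideal.mem_map_iff_of_surjective _ hs] at hb
    exact hb
  have hα : IsoOff B α := by
    constructor
    · intro z
      refine ⟨0, fun b _ => Subtype.ext ?_⟩
      obtain ⟨x, hx⟩ := hsurj (z : B ⊗[A] X)
      have h0 : φ x = 0 := by
        have h := LinearMap.mem_ker.1 z.2
        rw [← hx] at h
        simpa [α] using h
      obtain ⟨y, rfl⟩ := hker x h0
      rw [Submodule.coe_smul, ← hx, map_smul, ← algebraMap_smul B t, htB, zero_smul, smul_zero]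
      rfl
    · intro q
      obtain ⟨y, rfl⟩ := Submodule.Quotient.mk_surjective _ q
      obtain ⟨n, hn⟩ := hcok (Submodule.Quotient.mk (y : M₀))
      refine ⟨n, fun b hb => ?_⟩
      obtain ⟨a, ha, rfl⟩ := hmn n b hb
      obtain ⟨x, hx⟩ := (Submodule.Quotient.mk_eq_zero _).1
        ((Submodule.Quotient.mk_smul _ a ((y : M₀) : Lv.M)).trans (hn a ha))
      change φ x = a • (y : M₀) at hx
      rw [← Submodule.Quotient.mk_smul, Submodule.Quotient.mk_eq_zero, algebraMap_smul]
      exact ⟨(1 : B) ⊗ₜ x, by simp [α, hx]⟩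
  have hβ : IsoOff B β := by
    constructor
    · refine isPowerTorsion_of_local fun z P hP => ?_
      obtain ⟨u, s, hs', h1, h2⟩ := hXfree (PrimeSpectrum.comap (algebraMap A B) P)
        (fun h => hP fun w hw => by
          obtain ⟨a, rfl⟩ := hs w
          exact h (hm.le hw))
        (show algebraMap A B t ∈ P.asIdeal by rw [htB]; exact P.asIdeal.zero_mem)
      obtain ⟨ψ, -, hψ⟩ := exists_func u s h1 h2
      obtain ⟨x, hx⟩ := hsurj (z : B ⊗[A] X)
      have h0 : (1 : B) ⊗ₜ[A] Module.Dual.eval A X x = 0 := by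
        have h := LinearMap.mem_ker.1 z.2
        rw [← hx] at h
        simpa [β] using h
      obtain ⟨G, hG⟩ : ∃ G : N, Module.Dual.eval A X x = t • G := by
        have h := congrArg (TensorProduct.quotTensorEquivQuotSMul N J) h0
        rw [map_zero] at h
        have h' := (TensorProduct.quotTensorEquivQuotSMul_mk_one_tmul J (Module.Dual.eval A X x)).symm.trans h
        rw [Submodule.Quotient.mk_eq_zero, Submodule.ideal_span_singleton_smul] at h'
        clear h
        rename' h' => h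
        obtain ⟨G, -, hG⟩ := (Submodule.mem_smul_pointwise_iff_exists _ _ _).1 h
        exact ⟨G, hG.symm⟩
      refine ⟨algebraMap A B (s * s), fun h => ?_, Subtype.ext ?_⟩
      · exact ((PrimeSpectrum.comap (algebraMap A B) P).isPrime.mem_or_mem h).elim hs' hs'
      · have h3 : ψ x = t * G ψ := by
          have := LinearMap.congr_fun hG ψ
          rwa [LinearMap.smul_apply, smul_eq_mul] at this
        rw [Submodule.coe_smul, ← hx, algebraMap_smul, ← map_smul, ← hψ, h3, mul_smul, map_smul,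
          ← algebraMap_smul B t, htB, zero_smul]
        rfl
    · refine isPowerTorsion_of_local fun q P hP => ?_
      obtain ⟨z, rfl⟩ := Submodule.Quotient.mk_surjective _ q
      obtain ⟨G, rfl⟩ := hsurjN z
      obtain ⟨u, s, hs', h1, h2⟩ := hXfree (PrimeSpectrum.comap (algebraMap A B) P)
        (fun h => hP fun w hw => by
          obtain ⟨a, rfl⟩ := hs w
          exact h (hm.le hw))
        (show algebraMap A B t ∈ P.asIdeal by rw [htB]; exact P.asIdeal.zero_mem)
      obtain ⟨ψ, -, hψ⟩ := exists_func u s h1 h2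
      refine ⟨algebraMap A B (s * s), fun h => ?_, ?_⟩
      · exact ((PrimeSpectrum.comap (algebraMap A B) P).isPrime.mem_or_mem h).elim hs' hs'
      · rw [← Submodule.Quotient.mk_smul, Submodule.Quotient.mk_eq_zero, algebraMap_smul, ← map_smul,
          eval_smul_eq hψ G, map_smul]
        exact ⟨(G ψ) • ((1 : B) ⊗ₜ u), by
          rw [← algebraMap_smul B (G ψ), map_smul, algebraMap_smul]; simp [β]⟩
  obtain ⟨eα⟩ := nonempty_punct_iso_of_isoOff hα
  obtain ⟨eβ⟩ := nonempty_punct_iso_of_isoOff hβ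
  obtain ⟨eev⟩ := nonempty_punct_iso_of_isoOff (isoOff_eval hfree₀)
  exact ⟨eβ.symm ≪≫ eα ≪≫ eev.symm ≪≫ eN⟩

/-- The ideal of the hypersurface on the punctured spectrum. -/
theorem ker_hyp :
    (hyp A t).ker =
      (Spec.map (CommRingCat.ofHom (Ideal.Quotient.mk (Ideal.span {t})))).ker.comap
        (LocCoh.puncturedOpen A (maximalIdeal A)).ι := by
  haveI : IsClosedImmersion (Spec.map (CommRingCat.ofHom (Ideal.Quotient.mk (Ideal.span {t})))) :=
    IsClosedImmersion.spec_of_surjective _ Ideal.Quotient.mk_surjective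
  let e := (isPullback_morphismRestrict (Spec.map (CommRingCat.ofHom (Ideal.Quotient.mk (Ideal.span {t}))))
    (LocCoh.puncturedOpen A (maximalIdeal A))).isoPullback
  rw [← Scheme.IdealSheafData.ker_fst_of_isClosedImmersion, ← Scheme.Hom.ker_comp_of_isIso e.hom,
    IsPullback.isoPullback_hom_fst]

end Groth.Agent.CIPic27
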