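import Groth.Agent.Lib.CIPic27.Good
import Groth.Agent.Lib.FGA3.SqZero
import Groth.Agent.Lib.ModM1.PullSpec
import Groth.Agent.Lib.Twist.Pullback

/-!
# Lifting modules free of rank one off the closed point along a square zero thickening
-/

set_option autoImplicit false
set_option linter.style.haveILetI false

universe u

open CategoryTheory CategoryTheory.Limits AlgebraicGeometry TopologicalSpace Opposite IsLocalRing
open scoped TensorProduct

noncomputable section

namespace Groth.Agent.CIPic27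

open Groth.Agent.M1 Groth.Agent.LocCohLib Groth.Agent.LocCohSheafLib Groth.Agent.InjHullLib Groth.Agent.ParaGr27

/-- Cohomology of the structure sheaf of an isomorphic scheme. -/
theorem subsingleton_HH_structure_of_iso {X Y : Scheme.{u}} (j : X ⟶ Y) [IsIso j] (n : ℕ)
    (h : Subsingleton (Coh.HH Y (Coh.structureModule Y) n)) :
    Subsingleton (Coh.HH X (Coh.structureModule X) n) := by
  obtain ⟨e⟩ := CohFound.nonempty_hc_abF_restrict j (Coh.structureModule Y) n ⊤
  rw [Scheme.Hom.image_top_eq_opensRange, Scheme.Hom.opensRange_of_isIso] at e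
  exact @Equiv.subsingleton _ _
    ((CohFound.hhExt _ n).trans ((CohFound.mpEquiv ((CohFound.abF X).mapIso
      (Scheme.Modules.restrictUnitIso j).symm) n ⊤).trans (e.trans (CohFound.hhExt _ n).symm))).toEquiv h

/-- `H²` of the ideal of a closed immersion. -/
theorem subsingleton_HH_idealMod {X Y : Scheme.{u}} (p : Y ⟶ X) [IsClosedImmersion p]
    (h2 : Subsingleton (Coh.HH X (Coh.structureModule X) 2))
    (h1 : Subsingleton (Coh.HH Y (Coh.structureModule Y) 1)) :
    Subsingleton (Coh.HH X (ClSub.idealMod p.ker) 2) := by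
  let I := p.ker
  let t : Y ≅ I.subscheme := asIso p.toImage
  haveI := subsingleton_HH_structure_of_iso t.inv 1 h1
  let N := Coh.structureModule I.subscheme
  haveI : N.IsQuasicoherent := M1.isQCoh_structureModule _
  obtain ⟨e⟩ := CohFound.nonempty_hc_push_isAffineHom I.subschemeι N 1 ⊤
  haveI : Subsingleton (CohFound.Hc ((CohFound.abF I.subscheme).obj N) 1 (I.subschemeι ⁻¹ᵁ ⊤)) :=
    FGA3.subsingleton_of_addEquiv (CohFound.hhExt N 1).symm
  haveI := FGA3.subsingleton_of_addEquiv e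
  haveI : Subsingleton (Coh.HH X ((Scheme.Modules.pushforward I.subschemeι).obj N) 1) :=
    FGA3.subsingleton_of_addEquiv (CohFound.hhExt ((Scheme.Modules.pushforward I.subschemeι).obj N) 1)
  haveI := h2
  have hS := M2.shortExact_idealMod I
  refine subsingleton_of_forall_eq 0 fun x => ?_
  obtain ⟨y, rfl⟩ : ∃ y, CurveCoh17.hdelta₀ hS 1 y = x := by
    have hx' : CohFound.mp ((CohFound.abF X).map (ClSub.idealModι I)) 2 ⊤ (CohFound.hhExt _ 2 x) = 0 := by
      rw [← CurveCoh17.hhExt_hmap₀, Subsingleton.elim (CurveCoh17.hmap₀ _ 2 x) 0, map_zero]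
    obtain ⟨y, hy⟩ := CohFound.exact₁ (CohFound.shortExact_abF hS) 1 ⊤ _ hx'
    refine ⟨(CohFound.hhExt _ 1).symm y, (CohFound.hhExt _ 2).injective ?_⟩
    rw [CurveCoh17.hhExt_hdelta₀, AddEquiv.apply_symm_apply]
    exact hy
  rw [Subsingleton.elim (α := Coh.HH X ((Scheme.Modules.pushforward I.subschemeι).obj N) 1) y 0]
  exact map_zero _

attribute [local instance] M2.law in
/-- Invertible modules lift along a square zero closed immersion. -/
theorem exists_lift_invertible {X Y : Scheme.{u}} (p : Y ⟶ X) [IsClosedImmersion p] (hI : p.ker * p.ker = ⊥)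
    (h2 : Subsingleton (Coh.HH X (Coh.structureModule X) 2))
    (h1 : Subsingleton (Coh.HH Y (Coh.structureModule Y) 1))
    (L₀ : Y.Modules) (hL₀ : PicF.IsInvertible L₀) :
    ∃ L : X.Modules, PicF.IsInvertible L ∧ Nonempty ((Scheme.Modules.pullback p).obj L ≅ L₀) := by
  haveI := subsingleton_HH_idealMod p h2 h1
  let t : Y ≅ p.ker.subscheme := asIso p.toImage
  have hL₀' := PicLoc.isInvertible_pullback t.inv hL₀
  have hi : PicGrp.PullMul p.ker.subschemeι := M2.pullMul _
  obtain ⟨d, hd⟩ := (PicH1_21.δ₁Add_eq_zero_iff hI hi (PicGrp.cls _ hL₀')).1 (Subsingleton.elim _ _)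
  obtain ⟨L, hL, rfl⟩ := PicGrp.exists_eq_cls d
  rw [PicGrp.pullHom_cls] at hd
  obtain ⟨e⟩ := (PicGrp.cls_eq_cls_iff _ _).1 hd
  exact ⟨L, hL, ⟨(Scheme.Modules.pullbackCongr p.toImage_imageι.symm).app L ≪≫
    ((Scheme.Modules.pullbackComp t.hom p.ker.subschemeι).app L).symm ≪≫
    (Scheme.Modules.pullback t.hom).mapIso e ≪≫ (Scheme.Modules.pullbackComp t.hom t.inv).app L₀ ≪≫
    (Scheme.Modules.pullbackCongr t.hom_inv_id).app L₀ ≪≫ (Scheme.Modules.pullbackId Y).app L₀⟩⟩

/-- The kernel of a square zero closed immersion, on an open. -/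
theorem ker_sq_eq_bot {S S₀ : Type u} [CommRing S] [CommRing S₀] (q : S →+* S₀) (hq : Function.Surjective q)
    (hsq : RingHom.ker q * RingHom.ker q = ⊥) (U : (Spec (CommRingCat.of S)).Opens) :
    haveI : IsClosedImmersion (Spec.map (CommRingCat.ofHom q)) := IsClosedImmersion.spec_of_surjective _ hq
    (Spec.map (CommRingCat.ofHom q) ∣_ U).ker * (Spec.map (CommRingCat.ofHom q) ∣_ U).ker = ⊥ := by
  haveI : IsClosedImmersion (Spec.map (CommRingCat.ofHom q)) := IsClosedImmersion.spec_of_surjective _ hq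
  let f := Spec.map (CommRingCat.ofHom q)
  have htop : RingHom.ker f.appTop.hom * RingHom.ker f.appTop.hom = ⊥ := by
    refine eq_bot_iff.2 (Ideal.mul_le.2 fun a ha b hb => (Submodule.mem_bot _).2 ?_)
    let e := (Scheme.ΓSpecIso (CommRingCat.of S)).commRingCatIsoToRingEquiv
    let e₀ := (Scheme.ΓSpecIso (CommRingCat.of S₀)).commRingCatIsoToRingEquiv
    have hnat : ∀ c, q (e c) = e₀ (f.appTop.hom c) := fun c =>
      (congr($(Scheme.ΓSpecIso_naturality (CommRingCat.ofHom q)).hom c)).symm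
    have hmem : ∀ c ∈ RingHom.ker f.appTop.hom, e c ∈ RingHom.ker q := fun c hc => by
      rw [RingHom.mem_ker, hnat, RingHom.mem_ker.1 hc, map_zero]
    have h := Ideal.mul_mem_mul (hmem a ha) (hmem b hb)
    rw [hsq, Submodule.mem_bot, ← map_mul] at h
    exact (map_eq_zero_iff e e.injective).1 h
  refine Scheme.IdealSheafData.ext (funext fun V => ?_)
  rw [Scheme.IdealSheafData.ideal_mul, Pi.mul_apply, Scheme.ker_morphismRestrict_ideal,
    Scheme.ker_of_isAffine, Scheme.IdealSheafData.ofIdealTop_ideal]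
  exact (Ideal.map_mul _ _ _).symm.trans ((congrArg _ htop).trans Ideal.map_bot)

variable {S S₀ : Type u} [CommRing S] [CommRing S₀] [IsLocalRing S] [IsLocalRing S₀]

theorem preimage_puncturedOpen (q : S →+* S₀) (hq : Function.Surjective q) :
    Spec.map (CommRingCat.ofHom q) ⁻¹ᵁ LocCoh.puncturedOpen S (maximalIdeal S) =
      LocCoh.puncturedOpen S₀ (maximalIdeal S₀) := by
  have hm : (maximalIdeal S₀).comap q = maximalIdeal S :=
    IsLocalRing.eq_maximalIdeal (Ideal.comap_isMaximal_of_surjective q hq)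
  ext p
  show ¬ (maximalIdeal S : Set S) ⊆ (Ideal.comap q p.asIdeal) ↔ ¬ (maximalIdeal S₀ : Set S₀) ⊆ p.asIdeal
  refine not_congr ⟨fun h y hy => ?_, fun h x hx => h (show q x ∈ maximalIdeal S₀ from hm.ge hx)⟩
  obtain ⟨x, rfl⟩ := hq y
  exact h (hm.le hy)

variable [IsNoetherianRing S] [IsNoetherianRing S₀]

theorem subsingleton_HH_punct_self (i : ℕ) (h : Van S S (i + 2)) :
    Subsingleton (Coh.HH (↑(LocCoh.puncturedOpen S (maximalIdeal S))) (Coh.structureModule _) (i + 1)) := by
  obtain ⟨e⟩ := nonempty_HH_punct_equiv (maximalIdeal S) i S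
  haveI : Subsingleton (LocCoh.H (maximalIdeal S) (i + 2) S) := h
  haveI := e.toEquiv.subsingleton
  exact (CurveCoh17.hequiv S ((Scheme.Modules.restrictFunctor (LocCoh.puncturedOpen S (maximalIdeal S)).ι).mapIso
      (tildeSelf (R := CommRingCat.of S)) ≪≫ Scheme.Modules.restrictUnitIso _) (i + 1)).symm.toEquiv.subsingleton

omit [IsNoetherianRing S] in
theorem isInvertible_of_freeOff {N : Type u} [AddCommGroup N] [Module S N] (h : FreeOff S N) :
    PicF.IsInvertible ((tilde (R := CommRingCat.of S) (ModuleCat.of S N)).restrict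
      (LocCoh.puncturedOpen S (maximalIdeal S)).ι) := by
  refine Twist.isInvertible_restrict _ _ fun y => ?_
  obtain ⟨u, s, hs, h1, h2⟩ := h _ (not_le_asIdeal y.2)
  exact ⟨bo (R := CommRingCat.of S) s, hs, Twist.nonempty_restrict_iso _ _ _
    (ParaF27.isGen_tilde_of_locGen (R := CommRingCat.of S) (ModuleCat.of S N) (q := u)
      ⟨fun x => let ⟨c, hc⟩ := h1 x; ⟨1, c, by rw [pow_one, hc]⟩, fun c hc => ⟨1, by rw [pow_one, h2 c hc]⟩⟩)⟩

theorem freeOff_of_invertible {M : Type u} [AddCommGroup M] [Module S M] [Module.Finite S M]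
    (hproj : ∀ f ∈ maximalIdeal S,
      Module.Projective (Localization (Submonoid.powers f)) (LocalizedModule (Submonoid.powers f) M))
    (hL : PicF.IsInvertible ((tilde (R := CommRingCat.of S) (ModuleCat.of S M)).restrict
      (LocCoh.puncturedOpen S (maximalIdeal S)).ι)) : FreeOff S M := by
  refine freeOff_of_locData (locData_of_invertible (fun a ha => ?_) hL)
  haveI : Module.FinitePresentation S M := Module.finitePresentation_of_finite S M
  obtain ⟨r, π, hπ⟩ := Module.Finite.exists_fin' S M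
  haveI := hproj a ha
  obtain ⟨k, s, hs⟩ := PunctFree27.exists_factor_free a π hπ
  exact ⟨r, k, s, π, hs⟩

omit [IsLocalRing S₀] [IsNoetherianRing S₀] in
/-- Maps of sheaves on the punctured spectrum into a depth two module. -/
theorem exists_hom_of_punct_iso {P N : Type u} [AddCommGroup P] [Module S P] [AddCommGroup N]
    [Module S N] (hN : Good S N)
    (e : (tilde (R := CommRingCat.of S) (ModuleCat.of S P)).restrict (LocCoh.puncturedOpen S (maximalIdeal S)).ι ≅
      (tilde (R := CommRingCat.of S) (ModuleCat.of S N)).restrict (LocCoh.puncturedOpen S (maximalIdeal S)).ι) :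
    ∃ ψ : P →ₗ[S] N, IsoOff S ψ := by
  let a := maximalIdeal S
  let E : Sec P (LocCoh.puncturedOpen S a) ≃ₗ[S] N :=
    ((secTopH a P).symm.trans ((CurveCoh17.hequiv S e 0).trans (secTopH a N))).trans
      (LinearEquiv.ofBijective _ (bijective_toS hN.1 hN.2)).symm
  refine ⟨E.toLinearMap ∘ₗ toS P (LocCoh.puncturedOpen S a), fun x => ?_, fun y => ?_⟩
  · have hx : toS P (LocCoh.puncturedOpen S a) (x : P) = 0 := E.injective (by rw [map_zero]; exact x.2)
    rw [toS_eq_zero_iff, mem_powTors_iff] at hx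
    obtain ⟨n, hn⟩ := hx
    exact ⟨n, fun r hr => Subtype.ext (hn r hr)⟩
  · obtain ⟨y, rfl⟩ := Submodule.Quotient.mk_surjective _ y
    obtain ⟨n, hn⟩ := exists_pow_smul_eq_toS a (E.symm y)
    refine ⟨n, fun r hr => ?_⟩
    obtain ⟨x, hx⟩ := hn r hr
    rw [← Submodule.Quotient.mk_smul, Submodule.Quotient.mk_eq_zero]
    exact ⟨x, by rw [LinearMap.comp_apply, hx, map_smul]; exact congrArg (r • ·) (E.apply_symm_apply y)⟩

omit [IsLocalRing S] [IsLocalRing S₀] [IsNoetherianRing S₀] in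
theorem finite_dual {N : Type u} [AddCommGroup N] [Module S N] [Module.Finite S N] : Module.Finite S (D S N) := by
  obtain ⟨r, π, hπ⟩ := Module.Finite.exists_fin' S N
  exact Module.Finite.of_injective (LinearMap.lcomp S S π) fun f g h => (LinearMap.cancel_right hπ).1 h

/-- A module free of rank one off the closed point lifts along a square zero surjection. -/
theorem exists_lift_core (q : S →+* S₀) (hq : Function.Surjective q) (hsq : RingHom.ker q * RingHom.ker q = ⊥)
    (h3 : Van S S 3) (h2 : Van S₀ S₀ 2) (hd : (2 : ℕ∞) ≤ LocCoh.depth S S)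
    (N₀ : Type u) [AddCommGroup N₀] [Module S₀ N₀] [Module.Finite S₀ N₀] (hN : FreeOff S₀ N₀) (hG : Good S₀ N₀) :
    ∃ (M : Type u) (_ : AddCommGroup M) (_ : Module S M) (_ : Module.Finite S M) (ρ : M →+ N₀),
      FreeOff S M ∧ Good S M ∧ (∀ (c : S) (x : M), ρ (c • x) = q c • ρ x) ∧
      (∀ y : N₀, ∃ n : ℕ, ∀ r ∈ maximalIdeal S ^ n, ∃ x : M, ρ x = q r • y) ∧
      ∀ x : M, ρ x = 0 → ∃ n : ℕ, ∀ r ∈ maximalIdeal S ^ n, r • x ∈ RingHom.ker q • (⊤ : Submodule S M) := by
  haveI : IsClosedImmersion (Spec.map (CommRingCat.ofHom q)) := IsClosedImmersion.spec_of_surjective _ hq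
  let f := Spec.map (CommRingCat.ofHom q)
  let U := LocCoh.puncturedOpen S (maximalIdeal S)
  have hV : f ⁻¹ᵁ U = LocCoh.puncturedOpen S₀ (maximalIdeal S₀) := preimage_puncturedOpen q hq
  let L₀ := (tilde (R := CommRingCat.of S₀) (ModuleCat.of S₀ N₀)).restrict (f ⁻¹ᵁ U).ι
  have hL₀ : PicF.IsInvertible L₀ := by
    show PicF.IsInvertible ((tilde (R := CommRingCat.of S₀) (ModuleCat.of S₀ N₀)).restrict (f ⁻¹ᵁ U).ι)
    rw [hV]
    exact isInvertible_of_freeOff hN
  have hH1 : Subsingleton (Coh.HH (↑(f ⁻¹ᵁ U) : Scheme.{u}) (Coh.structureModule _) 1) := by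
    rw [hV]
    exact subsingleton_HH_punct_self 0 h2
  obtain ⟨L, hL, ⟨eL⟩⟩ := exists_lift_invertible (f ∣_ U) (ker_sq_eq_bot q hq hsq U)
    (subsingleton_HH_punct_self 1 h3) hH1 L₀ hL₀
  obtain ⟨M', _, hproj, ⟨eM⟩⟩ := PunctFree27.exists_model (maximalIdeal S) L (IsNoetherian.noetherian _)
    (M2.isFinLocFree_of_isInvertible hL)
  haveI : Module.Finite S M' := inferInstance
  have hfree : FreeOff S M' := freeOff_of_invertible hproj (Twist.isInvertible_of_iso eM.symm hL)
  letI : Algebra S S₀ := q.toAlgebra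
  let P' : ModuleCat.{u} S₀ := ModuleCat.of S₀ (TensorProduct S S₀ M')
  have he : Nonempty ((tilde (R := CommRingCat.of S₀) (ModuleCat.of S₀ P')).restrict (f ⁻¹ᵁ U).ι ≅
      (tilde (R := CommRingCat.of S₀) (ModuleCat.of S₀ N₀)).restrict (f ⁻¹ᵁ U).ι) :=
    ⟨((Scheme.Modules.restrictFunctor (f ⁻¹ᵁ U).ι).mapIso (tildePullbackObjIso (CommRingCat.ofHom q) M')).symm ≪≫
      Twist.pullbackRestrictIso f _ U ≪≫ (Scheme.Modules.pullback (f ∣_ U)).mapIso eM ≪≫ eL⟩
  rw [hV] at he
  obtain ⟨e⟩ := he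
  obtain ⟨ψ, hψ⟩ := exists_hom_of_punct_iso (S := S₀) (P := (P' : Type u)) (N := N₀) hG e
  letI : Module S N₀ := Module.compHom N₀ q
  haveI : IsScalarTower S S₀ N₀ := IsScalarTower.of_algebraMap_smul fun _ _ => rfl
  let ψ' : TensorProduct S S₀ M' →ₗ[S₀] N₀ := ψ
  let ι₁ : M' →ₗ[S] TensorProduct S S₀ M' := TensorProduct.mk S S₀ M' 1
  have hι₁ : Function.Surjective ι₁ := TensorProduct.mk_surjective S M' S₀ hq
  have hker₁ : ∀ x, ι₁ x = 0 → x ∈ RingHom.ker q • (⊤ : Submodule S M') := fun x hx => by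
    let e₁ : TensorProduct S S₀ M' ≃ₗ[S] TensorProduct S (S ⧸ RingHom.ker q) M' := TensorProduct.congr
      (Ideal.quotientKerAlgEquivOfSurjective (f := Algebra.ofId S S₀) hq).symm.toLinearEquiv (LinearEquiv.refl S M')
    let e₂ := e₁.trans (TensorProduct.quotTensorEquivQuotSMul M' (RingHom.ker q))
    have h : e₂ (ι₁ x) = 0 := (congrArg e₂ hx).trans e₂.map_zero
    have h1 : e₂ (ι₁ x) = Submodule.Quotient.mk x := by
      show TensorProduct.quotTensorEquivQuotSMul M' (RingHom.ker q)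
        ((Ideal.quotientKerAlgEquivOfSurjective (f := Algebra.ofId S S₀) hq).symm 1 ⊗ₜ[S] x) = _
      rw [map_one]
      exact TensorProduct.quotTensorEquivQuotSMul_mk_one_tmul (RingHom.ker q) x
    exact (Submodule.Quotient.mk_eq_zero _).1 (h1.symm.trans h)
  have hm : (maximalIdeal S).map q = maximalIdeal S₀ := by
    rw [← IsLocalRing.eq_maximalIdeal (Ideal.comap_isMaximal_of_surjective q hq (K := maximalIdeal S₀))]
    exact Ideal.map_comap_of_surjective q hq _
  have hmn : ∀ (n : ℕ) (r : S), r ∈ maximalIdeal S ^ n → q r ∈ maximalIdeal S₀ ^ n := fun n r hr => by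
    rw [← hm, ← Ideal.map_pow]
    exact Ideal.mem_map_of_mem q hr
  let ρ₁ : M' →ₗ[S] N₀ := ψ'.restrictScalars S ∘ₗ ι₁
  have hev := isoOff_eval hfree
  haveI : Module.Finite S (D S M') := finite_dual
  have hfd := freeOff_dual (freeOff_dual hfree)
  let M := D S (D S M')
  haveI : Module.Finite S M := finite_dual (N := D S M')
  have hGM : Good S M := good_dual hd
  have hGN : Good S N₀ := by
    haveI : Module.Finite S S₀ := Module.Finite.of_surjective (Algebra.linearMap S S₀) hq
    haveI : Module.Finite S N₀ := Module.Finite.trans (R := S) S₀ N₀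
    have h1 : (2 : ℕ∞) ≤ LocCoh.depth S₀ N₀ :=
      (van_iff_natCast_le_depth 2).1 fun i hi => by interval_cases i <;> [exact hG.1; exact hG.2]
    rw [← FlatDepth.depth_eq_of_surjective (A := S) (B := S₀) (M := N₀) hq] at h1
    exact ⟨(van_iff_natCast_le_depth 2).2 h1 0 (by omega), (van_iff_natCast_le_depth 2).2 h1 1 (by omega)⟩
  obtain ⟨ρ, hρ⟩ := exists_extend_isoOff hGN hev ρ₁
  refine ⟨M, inferInstance, inferInstance, inferInstance, ρ.toAddMonoidHom, hfd, hGM, fun c x => map_smul ρ c x,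
    fun y => ?_, fun x hx => ?_⟩
  · obtain ⟨n, hn⟩ := hψ.2 (Submodule.Quotient.mk y)
    refine ⟨n, fun r hr => ?_⟩
    obtain ⟨z, hz⟩ := (Submodule.Quotient.mk_eq_zero _).1 ((Submodule.Quotient.mk_smul _ (q r) y).trans (hn _ (hmn n r hr)))
    obtain ⟨x, rfl⟩ := hι₁ z
    exact ⟨Module.Dual.eval S M' x, (LinearMap.congr_fun hρ x).trans hz⟩
  · let J' : Submodule S M := RingHom.ker q • ⊤
    have hle : maximalIdeal S ≤ Ideal.radical (J'.comap (LinearMap.toSpanSingleton S M x) : Ideal S) := by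
      intro a ha
      obtain ⟨n, hn⟩ := hev.2 (Submodule.Quotient.mk x)
      obtain ⟨y, hy⟩ := (Submodule.Quotient.mk_eq_zero _).1
        ((Submodule.Quotient.mk_smul _ (a ^ n) x).trans (hn _ (Ideal.pow_mem_pow ha n)))
      have h0 : ψ' (ι₁ y) = 0 := by
        show ρ₁ y = 0
        rw [← hρ, LinearMap.comp_apply, hy, map_smul]
        show a ^ n • ρ x = 0
        rw [show ρ x = 0 from hx, smul_zero]
      obtain ⟨k, hk⟩ := hψ.1 ⟨ι₁ y, h0⟩
      have hk' : ι₁ (a ^ k • y) = 0 := by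
        rw [map_smul, ← IsScalarTower.algebraMap_smul S₀]
        exact congrArg Subtype.val (hk _ (hmn k _ (Ideal.pow_mem_pow ha k)))
      refine ⟨k + n, ?_⟩
      show a ^ (k + n) • x ∈ J'
      rw [pow_add, mul_smul, ← hy, ← map_smul]
      refine Submodule.smul_induction_on (hker₁ _ hk') (fun c hc z _ => ?_) fun z w hz hw => ?_
      · rw [map_smul]
        exact Submodule.smul_mem_smul hc trivial
      · rw [map_add]
        exact add_mem hz hw
    obtain ⟨n, hn⟩ := Ideal.exists_pow_le_of_le_radical_of_fg hle (IsNoetherian.noetherian (maximalIdeal S))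
    exact ⟨n, fun r hr => hn hr⟩

end Groth.Agent.CIPic27
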