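import Groth.Agent.Lib.CIPic27.Hypersurface

/-!
# Restriction to a hypersurface: statements with the closed subscheme
-/

set_option autoImplicit false
set_option linter.style.haveILetI false

universe u

open IsLocalRing AlgebraicGeometry CategoryTheory

noncomputable section

namespace Groth.Agent.CIPic27

open Groth.Agent.ParaGr27

theorem picPullbackInjective_of_iso_comp {X Y Y' : Scheme.{u}} (t : Y ≅ Y') (i : Y' ⟶ X) (p : Y ⟶ X)
    (h : t.hom ≫ i = p) (hp : Formal2.PicPullbackInjective p) : Formal2.PicPullbackInjective i := fun L hL ⟨e⟩ =>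
  hp L hL ⟨(Scheme.Modules.pullbackCongr h.symm).app L ≪≫ ((Scheme.Modules.pullbackComp t.hom i).app L).symm ≪≫
    (Scheme.Modules.pullback t.hom).mapIso e ≪≫ Twist.pullbackUnitIso t.hom⟩

theorem picPullbackSurjective_of_iso_comp {X Y Y' : Scheme.{u}} (t : Y ≅ Y') (i : Y' ⟶ X) (p : Y ⟶ X)
    (h : t.hom ≫ i = p) (hp : Formal2.PicPullbackSurjective p) : Formal2.PicPullbackSurjective i := fun L' hL' => by
  obtain ⟨L, hL, ⟨e⟩⟩ := hp _ (Twist.isInvertible_pullback t.hom hL')
  have h' : i = t.inv ≫ p := by rw [← h, Iso.inv_hom_id_assoc]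
  exact ⟨L, hL, ⟨(Scheme.Modules.pullbackCongr h').app L ≪≫ ((Scheme.Modules.pullbackComp t.inv p).app L).symm ≪≫
    (Scheme.Modules.pullback t.inv).mapIso e ≪≫ (Scheme.Modules.pullbackComp t.inv t.hom).app L' ≪≫
    (Scheme.Modules.pullbackCongr t.inv_hom_id).app L' ≪≫ (Scheme.Modules.pullbackId Y').app L'⟩⟩

variable {A : Type u} [CommRing A] [IsLocalRing A] [IsNoetherianRing A]

theorem isParafactorial_of_depth (hd : (2 : ℕ∞) ≤ LocCoh.depth A A)
    (hp : ParaF.PicTrivial (↑(FEt.puncturedSpec A) : Scheme.{u})) : ParaF.IsParafactorialLocalRing A := by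
  refine (ParaF27.isParafactorialLocalRing_iff (A := A)).2 ⟨?_, hp⟩
  have h := (van_iff_natCast_le_depth (A := A) (X := A) 2).2 hd
  have hb := bijective_toS (h 0 (by omega)) (h 1 (by omega))
  rw [← puncturedOpen_maximalIdeal]
  have hr : Function.Bijective (LocCohSheafLib.rho A
      (le_top : LocCoh.puncturedOpen A (maximalIdeal A) ≤ (⊤ : (Spec (CommRingCat.of A)).Opens))) := by
    refine (Function.Bijective.of_comp_iff _ LocCohSheafLib.toS_top_bijective).1 ?_
    convert! hb using 1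
  exact hr

theorem ptm_of_parafactorial (hd : (2 : ℕ∞) ≤ LocCoh.depth A A) (h : ParaF.IsParafactorialLocalRing A) : PTm A :=
  ptm_of_picTrivial hd ((ParaF27.isParafactorialLocalRing_iff (A := A)).1 h).2

omit [IsNoetherianRing A] in
theorem natCast_add_one_le_depth [IsNoetherianRing A] {t : A} (ht : t ∈ maximalIdeal A) (hreg : IsSMulRegular A t)
    [IsLocalRing (A ⧸ Ideal.span {t})] {k : ℕ}
    (h : (k : ℕ∞) ≤ LocCoh.depth (A ⧸ Ideal.span {t}) (A ⧸ Ideal.span {t})) :
    ((k + 1 : ℕ) : ℕ∞) ≤ LocCoh.depth A A := by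
  rw [← GorenLib.depth_quotient_add_one ht hreg, Nat.cast_succ]
  exact add_le_add h le_rfl

theorem dim_quotient_eq_one {t : A} (ht : t ∈ maximalIdeal A) {p : PrimeSpectrum A} (hp : ¬ maximalIdeal A ≤ p.asIdeal)
    (hq : ∀ q : PrimeSpectrum A, p ≤ q → t ∈ q.asIdeal → maximalIdeal A ≤ q.asIdeal) :
    ringKrullDim (A ⧸ p.asIdeal) = 1 := by
  let π := Ideal.Quotient.mk p.asIdeal
  haveI : Nontrivial (A ⧸ p.asIdeal) := Ideal.Quotient.nontrivial_iff.2 p.isPrime.ne_top
  haveI : IsLocalRing (A ⧸ p.asIdeal) := IsLocalRing.of_surjective' π Ideal.Quotient.mk_surjective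
  haveI : IsDomain (A ⧸ p.asIdeal) := Ideal.Quotient.isDomain _
  have hm : (maximalIdeal (A ⧸ p.asIdeal)).comap π = maximalIdeal A :=
    IsLocalRing.eq_maximalIdeal (Ideal.comap_isMaximal_of_surjective π Ideal.Quotient.mk_surjective)
  have hmin : maximalIdeal (A ⧸ p.asIdeal) ∈ (Ideal.span {π t}).minimalPrimes := by
    refine ⟨⟨inferInstance, (Ideal.span_singleton_le_iff_mem _).2 (show π t ∈ _ from hm.ge ht)⟩, fun P hP _ => ?_⟩
    haveI := hP.1
    have h2 := hq ⟨P.comap π, Ideal.IsPrime.comap π⟩ (fun a ha => by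
      show π a ∈ P
      rw [Ideal.Quotient.eq_zero_iff_mem.2 ha]
      exact P.zero_mem) (hP.2 (Ideal.mem_span_singleton_self _))
    intro z hz
    obtain ⟨a, rfl⟩ := Ideal.Quotient.mk_surjective z
    exact h2 (hm.le hz)
  have h1 := Ideal.height_le_one_of_isPrincipal_of_mem_minimalPrimes_of_isLocalRing _ hmin
  have h0 : (maximalIdeal (A ⧸ p.asIdeal)).height ≠ 0 := fun h => hp (by
    rw [Ideal.height_eq_zero_iff_eq_bot] at h
    rw [← hm, h, ← RingHom.ker_eq_comap_bot, Ideal.mk_ker])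
  rw [← IsLocalRing.maximalIdeal_height_eq_ringKrullDim, le_antisymm h1 (Order.one_le_iff_ne_zero.2 h0)]
  rfl

variable {t : A} [IsLocalRing (A ⧸ Ideal.span {t})]


/-- The closed subscheme of the punctured spectrum is the restricted closed immersion. -/
theorem exists_iso_hyp (U : (Spec (CommRingCat.of A)).Opens) (hU : U = LocCoh.puncturedOpen A (maximalIdeal A)) :
    (Formal2.PicPullbackInjective (hyp A t) →
      Formal2.PicPullbackInjective
        ((Spec.map (CommRingCat.ofHom (Ideal.Quotient.mk (Ideal.span {t})))).ker.comap U.ι).subschemeι) ∧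
    (Formal2.PicPullbackSurjective (hyp A t) →
      Formal2.PicPullbackSurjective
        ((Spec.map (CommRingCat.ofHom (Ideal.Quotient.mk (Ideal.span {t})))).ker.comap U.ι).subschemeι) := by
  subst hU
  rw [← ker_hyp]
  haveI : IsClosedImmersion (Spec.map (CommRingCat.ofHom (Ideal.Quotient.mk (Ideal.span {t})))) :=
    IsClosedImmersion.spec_of_surjective _ Ideal.Quotient.mk_surjective
  exact ⟨picPullbackInjective_of_iso_comp (asIso (hyp A t).toImage) _ _ (hyp A t).toImage_imageι,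
    picPullbackSurjective_of_iso_comp (asIso (hyp A t).toImage) _ _ (hyp A t).toImage_imageι⟩

/-- S3354. -/
theorem hypersurface_injective (ht : t ∈ maximalIdeal A) (hreg : IsSMulRegular A t)
    (hb : (3 : ℕ∞) ≤ LocCoh.depth (A ⧸ Ideal.span {t}) (A ⧸ Ideal.span {t})) :
    Formal2.PicPullbackInjective
        ((Spec.map (CommRingCat.ofHom (Ideal.Quotient.mk (Ideal.span {t})))).ker.comap (FEt.puncturedSpec A).ι).subschemeι ∧
      (ParaF.IsParafactorialLocalRing (A ⧸ Ideal.span {t}) → ParaF.IsParafactorialLocalRing A) := by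
  have hreg' : ∀ x : A, t * x = 0 → x = 0 := fun x hx => hreg (hx.trans (mul_zero t).symm)
  refine ⟨(exists_iso_hyp _ puncturedOpen_maximalIdeal.symm).1 (hyp_injective ht hreg' hb), fun h => ?_⟩
  obtain ⟨h3, hp⟩ := picTrivial_and_depth (Ideal.span {t}) (fun h => (maximalIdeal.isMaximal A).ne_top
      (top_le_iff.1 (h ▸ (Ideal.span_singleton_le_iff_mem _).2 ht))) hb (grFree_span_regular hreg')
    ((ParaF27.isParafactorialLocalRing_iff (A := A ⧸ Ideal.span {t})).1 h).2
  exact isParafactorial_of_depth (le_trans (by norm_num) h3) hp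

/-- S3355. -/
theorem hypersurface_bijective [IsAdicComplete (Ideal.span {t}) A] (ht : t ∈ maximalIdeal A) (hreg : IsSMulRegular A t)
    (ha : ∀ p : PrimeSpectrum A, ringKrullDim (A ⧸ p.asIdeal) = 1 →
      (2 : ℕ∞) ≤ LocCoh.depth (Localization.AtPrime p.asIdeal) (Localization.AtPrime p.asIdeal))
    (hd : (4 : ℕ∞) ≤ LocCoh.depth (A ⧸ Ideal.span {t}) (A ⧸ Ideal.span {t}))
    (he : ∀ p : PrimeSpectrum A, t ∉ p.asIdeal → ringKrullDim (A ⧸ p.asIdeal) = 1 →
      ParaF.IsParafactorialLocalRing (Localization.AtPrime p.asIdeal)) :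
    (Formal2.PicPullbackInjective
        ((Spec.map (CommRingCat.ofHom (Ideal.Quotient.mk (Ideal.span {t})))).ker.comap (FEt.puncturedSpec A).ι).subschemeι ∧
      Formal2.PicPullbackSurjective
        ((Spec.map (CommRingCat.ofHom (Ideal.Quotient.mk (Ideal.span {t})))).ker.comap (FEt.puncturedSpec A).ι).subschemeι) ∧
      (ParaF.IsParafactorialLocalRing A ↔ ParaF.IsParafactorialLocalRing (A ⧸ Ideal.span {t})) := by
  have hreg' : ∀ x : A, t * x = 0 → x = 0 := fun x hx => hreg (hx.trans (mul_zero t).symm)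
  have hd5 : (5 : ℕ∞) ≤ LocCoh.depth A A := natCast_add_one_le_depth (k := 4) ht hreg hd
  obtain ⟨h1, h2⟩ := hypersurface_injective ht hreg (le_trans (by norm_num) hd)
  have hloc : ∀ p : PrimeSpectrum A, ¬ maximalIdeal A ≤ p.asIdeal → t ∉ p.asIdeal →
      (∀ q : PrimeSpectrum A, p ≤ q → t ∈ q.asIdeal → maximalIdeal A ≤ q.asIdeal) →
      PTm (Localization.AtPrime p.asIdeal) := fun p hp htp hq =>
    have h := dim_quotient_eq_one ht hp hq
    ptm_of_parafactorial (ha p h) (he p htp h)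
  refine ⟨⟨h1, (exists_iso_hyp _ puncturedOpen_maximalIdeal.symm).2 (hyp_surjective ht hreg' hd5 hloc)⟩,
    fun h => ?_, h2⟩
  exact isParafactorial_of_depth (le_trans (by norm_num) hd)
    (picTrivial_of_ptm (ptm_quotient ht hreg' hd5 (ptm_of_parafactorial (le_trans (by norm_num) hd5) h) hloc))

end Groth.Agent.CIPic27
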