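import Groth.Agent.Lib.CIPic27.Good
import Groth.Agent.Lib.Goren.GorenFinLen27
import Groth.Agent.Lib.Compl.Complete
import Mathlib.RingTheory.AdicCompletion.Functoriality
import Mathlib.RingTheory.Length

/-!
# Compatible systems of modules free of rank one off the closed point over `B/(t^{n+1})`
-/

set_option autoImplicit false
set_option linter.style.haveILetI false

universe u

open IsLocalRing

noncomputable section

namespace Groth.Agent.CIPic27

open Groth.Agent.LocCohLib Groth.Agent.InjHullLib Groth.Agent.ParaGr27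

variable {B : Type u} [CommRing B] [IsLocalRing B] [IsNoetherianRing B]

theorem isPowerTorsion_range_comp {X Y Z : Type u} [AddCommGroup X] [Module B X] [AddCommGroup Y] [Module B Y]
    [AddCommGroup Z] [Module B Z] {f : X →ₗ[B] Y} {g : Y →ₗ[B] Z}
    (hf : LocCoh.IsPowerTorsion (maximalIdeal B) (Y ⧸ LinearMap.range f))
    (hg : LocCoh.IsPowerTorsion (maximalIdeal B) (Z ⧸ LinearMap.range g)) :
    LocCoh.IsPowerTorsion (maximalIdeal B) (Z ⧸ LinearMap.range (g ∘ₗ f)) := by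
  refine isPowerTorsion_of_local fun q p hp => ?_
  obtain ⟨z, rfl⟩ := Submodule.Quotient.mk_surjective _ q
  obtain ⟨a, ham, hap⟩ := SetLike.not_le_iff_exists.1 hp
  obtain ⟨k, hk⟩ := hg (Submodule.Quotient.mk z)
  obtain ⟨y, hy⟩ := (Submodule.Quotient.mk_eq_zero _).1
    ((Submodule.Quotient.mk_smul _ (a ^ k) z).trans (hk _ (Ideal.pow_mem_pow ham k)))
  obtain ⟨l, hl⟩ := hf (Submodule.Quotient.mk y)
  obtain ⟨x, hx⟩ := (Submodule.Quotient.mk_eq_zero _).1
    ((Submodule.Quotient.mk_smul _ (a ^ l) y).trans (hl _ (Ideal.pow_mem_pow ham l)))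
  refine ⟨a ^ (l + k), fun h => hap (p.isPrime.mem_of_pow_mem _ h), ?_⟩
  rw [← Submodule.Quotient.mk_smul, Submodule.Quotient.mk_eq_zero]
  exact ⟨x, by rw [LinearMap.comp_apply, hx, map_smul, hy, pow_add, mul_smul]⟩

/-- An injection with torsion cokernel out of a depth two module is bijective. -/
theorem bijective_of_torsionCoker {X Y : Type u} [AddCommGroup X] [Module B X] [AddCommGroup Y] [Module B Y]
    (hX : Good B X) (hY : powTors (maximalIdeal B) Y = ⊥) {j : X →ₗ[B] Y} (hj : Function.Injective j)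
    (hc : LocCoh.IsPowerTorsion (maximalIdeal B) (Y ⧸ LinearMap.range j)) : Function.Bijective j := by
  have hk : IsoOff B j := ⟨fun x => ⟨0, fun r _ => Subtype.ext (hj (by
    exact (LinearMap.mem_ker.1 (r • x).2).trans (map_zero j).symm))⟩, hc⟩
  obtain ⟨g, hg⟩ := exists_extend_isoOff hX hk LinearMap.id
  have h2 : j ∘ₗ g = LinearMap.id := eq_of_comp_eq hY hc (by
    rw [LinearMap.comp_assoc, hg, LinearMap.comp_id, LinearMap.id_comp])
  exact ⟨hj, Function.RightInverse.surjective (g := g) (LinearMap.congr_fun h2)⟩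

theorem powTors_submodule {X : Type u} [AddCommGroup X] [Module B X] (hX : powTors (maximalIdeal B) X = ⊥)
    (S : Submodule B X) : powTors (maximalIdeal B) S = ⊥ := by
  refine (Submodule.eq_bot_iff _).2 fun x hx => ?_
  obtain ⟨n, hn⟩ := mem_powTors_iff.1 hx
  exact Subtype.ext (eq_zero_of_pow_smul hX (n := n) fun r hr => congrArg Subtype.val (hn r hr))

variable (B) in
/-- A compatible system. -/
structure Sys (t : B) where
  /-- The modules. -/
  M : ℕ → ModuleCat.{u} B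
  /-- The transition maps. -/
  ρ : ∀ n, M (n + 1) →ₗ[B] M n
  finite : ∀ n, Module.Finite B (M n)
  kill : ∀ n (x : M n), t ^ (n + 1) • x = 0
  good : ∀ n, Good B (M n)
  free : ∀ n (p : PrimeSpectrum B), ¬ maximalIdeal B ≤ p.asIdeal → t ∈ p.asIdeal →
    ∃ (u : M n) (s : B), s ∉ p.asIdeal ∧ (∀ x, ∃ c : B, s • x = c • u) ∧
      ∀ c : B, c • u = 0 → s * c ∈ Ideal.span {t ^ (n + 1)}
  coker : ∀ n, LocCoh.IsPowerTorsion (maximalIdeal B) (M n ⧸ LinearMap.range (ρ n))
  ker : ∀ n (x : M (n + 1)), ρ n x = 0 → t • x = 0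

namespace Sys

variable {t : B} (sy : Sys B t)

theorem kill₀ (x : sy.M 0) : t • x = 0 := (congrArg (· • x) (pow_one t)).symm.trans (sy.kill 0 x)

theorem exists_tau (n : ℕ) :
    ∃ τ : sy.M n →ₗ[B] sy.M (n + 1), τ ∘ₗ sy.ρ n = t • LinearMap.id := by
  let R := LinearMap.range (sy.ρ n)
  let f : R →ₗ[B] sy.M (n + 1) :=
    (LinearMap.ker (sy.ρ n)).liftQ (t • LinearMap.id) (fun x hx => LinearMap.mem_ker.2 (sy.ker n x hx)) ∘ₗ
      (sy.ρ n).quotKerEquivRange.symm.toLinearMap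
  have hk : IsoOff B R.subtype := ⟨fun x => ⟨0, fun r _ => Subtype.ext (R.injective_subtype (by
    exact (LinearMap.mem_ker.1 (r • x).2).trans (map_zero R.subtype).symm))⟩, by rw [Submodule.range_subtype]; exact sy.coker n⟩
  obtain ⟨τ, hτ⟩ := exists_extend_isoOff (sy.good (n + 1)) hk f
  refine ⟨τ, LinearMap.ext fun x => ?_⟩
  refine (LinearMap.congr_fun hτ ⟨_, LinearMap.mem_range_self _ x⟩).trans ?_
  simp only [f, LinearMap.comp_apply, LinearEquiv.coe_coe]
  rw [show (sy.ρ n).quotKerEquivRange.symm ⟨sy.ρ n x, LinearMap.mem_range_self _ x⟩ = Submodule.Quotient.mk x from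
    (sy.ρ n).quotKerEquivRange.symm_apply_eq.2 (Subtype.ext rfl), Submodule.liftQ_apply]

/-- Multiplication by `t` into the next level. -/
def τ (n : ℕ) : sy.M n →ₗ[B] sy.M (n + 1) := (sy.exists_tau n).choose

theorem τ_ρ (n : ℕ) (x : sy.M (n + 1)) : sy.τ n (sy.ρ n x) = t • x :=
  LinearMap.congr_fun (sy.exists_tau n).choose_spec x

theorem ρ_τ (n : ℕ) (x : sy.M n) : sy.ρ n (sy.τ n x) = t • x :=
  LinearMap.congr_fun (eq_of_comp_eq (sy.good n).powTors_eq (sy.coker n) (f := sy.ρ n ∘ₗ sy.τ n)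
    (g := t • LinearMap.id) (LinearMap.ext fun y => by
      simp only [LinearMap.comp_apply, LinearMap.smul_apply, LinearMap.id_apply]
      rw [sy.τ_ρ, map_smul])) x

/-- The projection to the bottom level. -/
def π : ∀ n, sy.M n →ₗ[B] sy.M 0
  | 0 => LinearMap.id
  | n + 1 => π n ∘ₗ sy.ρ n

/-- The inclusion of the bottom level. -/
def ι : ∀ n, sy.M 0 →ₗ[B] sy.M n
  | 0 => LinearMap.id
  | n + 1 => sy.τ n ∘ₗ ι n

theorem ι_π : ∀ (n : ℕ) (x : sy.M n), sy.ι n (sy.π n x) = t ^ n • x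
  | 0, x => by rw [pow_zero, one_smul]; rfl
  | n + 1, x => by
    show sy.τ n (sy.ι n (sy.π n (sy.ρ n x))) = _
    rw [ι_π, map_smul, τ_ρ, ← mul_smul, ← pow_succ]

theorem π_coker : ∀ n, LocCoh.IsPowerTorsion (maximalIdeal B) (sy.M 0 ⧸ LinearMap.range (sy.π n))
  | 0 => fun x => ⟨0, fun r _ => by
    obtain ⟨y, rfl⟩ := Submodule.Quotient.mk_surjective _ x
    rw [← Submodule.Quotient.mk_smul, Submodule.Quotient.mk_eq_zero]
    exact ⟨r • y, rfl⟩⟩
  | n + 1 => isPowerTorsion_range_comp (sy.coker n) (π_coker n)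

/-- A map with torsion cokernel between two levels sends generators to generators. -/
theorem exists_ann_image {i j : ℕ} (f : sy.M i →ₗ[B] sy.M j)
    (hf : LocCoh.IsPowerTorsion (maximalIdeal B) (sy.M j ⧸ LinearMap.range f))
    {p : PrimeSpectrum B} (hp : ¬ maximalIdeal B ≤ p.asIdeal) (ht : t ∈ p.asIdeal)
    {u : sy.M i} {s : B} (hs : s ∉ p.asIdeal) (hu : ∀ x, ∃ c : B, s • x = c • u) :
    ∃ a ∉ p.asIdeal, ∀ d : B, d • f u = 0 → a * d ∈ Ideal.span {t ^ (j + 1)} := by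
  obtain ⟨v, s', hs', h1, h2⟩ := sy.free j p hp ht
  obtain ⟨r, hrm, hrp⟩ := SetLike.not_le_iff_exists.1 hp
  obtain ⟨k, hk⟩ := hf (Submodule.Quotient.mk v)
  obtain ⟨x, hx⟩ := (Submodule.Quotient.mk_eq_zero _).1
    ((Submodule.Quotient.mk_smul _ (r ^ k) v).trans (hk _ (Ideal.pow_mem_pow hrm k)))
  obtain ⟨c, hc⟩ := hu x
  obtain ⟨a, ha⟩ := h1 (f u)
  have hv : (s' * (s * r ^ k) - c * a) • v = 0 := by
    rw [sub_smul, sub_eq_zero, mul_smul, mul_smul, ← hx, ← map_smul, hc, map_smul, smul_comm, ha, ← mul_smul]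
  have hca : c * a ∉ p.asIdeal := fun h => by
    have hmem := (Ideal.span_singleton_le_iff_mem (I := p.asIdeal)).2 (Ideal.pow_mem_of_mem _ ht _ j.succ_pos) (h2 _ hv)
    rw [mul_sub] at hmem
    have h' := (p.isPrime.mem_or_mem ((sub_add_cancel (s' * (s' * (s * r ^ k))) (s' * (c * a))) ▸
      p.asIdeal.add_mem hmem (p.asIdeal.mul_mem_left s' h))).elim hs' fun h => (p.isPrime.mem_or_mem h).elim hs' fun h =>
        (p.isPrime.mem_or_mem h).elim hs fun h => hrp (p.isPrime.mem_of_pow_mem _ h)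
    exact h'
  refine ⟨s' * a, fun h => (p.isPrime.mem_or_mem h).elim hs' fun h => hca (p.asIdeal.mul_mem_left c h), fun d hd => ?_⟩
  rw [mul_assoc]
  refine h2 _ ?_
  rw [mul_comm, mul_smul, ← ha, smul_comm, hd, smul_zero]

/-- Locally, elements killed by `t` are `ι`. -/
theorem range_ι_of_local (n : ℕ) {p : PrimeSpectrum B} {u : sy.M n} {s : B} (hu : ∀ x, ∃ c : B, s • x = c • u)
    {a : B} {x : sy.M n} (h : ∀ c : B, s • x = c • u → a * c ∈ Ideal.span {t ^ n}) :
    (a * s) • x ∈ LinearMap.range (sy.ι n) := by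
  obtain ⟨c, hc⟩ := hu x
  obtain ⟨b, hb⟩ := Ideal.mem_span_singleton'.1 (h c hc)
  refine ⟨b • sy.π n u, ?_⟩
  rw [map_smul, ι_π, mul_smul, hc, ← mul_smul, ← mul_smul, hb]

variable (hreg : ∀ x : B, t * x = 0 → x = 0)
include hreg

omit [IsLocalRing B] [IsNoetherianRing B] in
theorem mem_span_pow_of_mul_mem {c : B} {n : ℕ} (h : t * c ∈ Ideal.span {t ^ (n + 1)}) :
    c ∈ Ideal.span {t ^ n} := by
  obtain ⟨b, hb⟩ := Ideal.mem_span_singleton'.1 h
  refine Ideal.mem_span_singleton'.2 ⟨b, sub_eq_zero.1 (hreg _ ?_)⟩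
  rw [mul_sub, ← hb, pow_succ]
  ring

theorem τ_injective (n : ℕ) : Function.Injective (sy.τ n) := by
  refine (injective_iff_map_eq_zero _).2 fun x hx => ?_
  suffices h : LocCoh.IsPowerTorsion (maximalIdeal B) (LinearMap.ker (sy.τ n)) by
    obtain ⟨k, hk⟩ := h ⟨x, hx⟩
    exact eq_zero_of_pow_smul (sy.good n).powTors_eq (n := k) fun r hr => congrArg Subtype.val (hk r hr)
  refine isPowerTorsion_of_local fun x p hp => ?_
  by_cases ht : t ∈ p.asIdeal
  · obtain ⟨r, hrm, hrp⟩ := SetLike.not_le_iff_exists.1 hp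
    obtain ⟨k, hk⟩ := sy.coker n (Submodule.Quotient.mk (x : sy.M n))
    obtain ⟨y, hy⟩ := (Submodule.Quotient.mk_eq_zero _).1
      ((Submodule.Quotient.mk_smul _ (r ^ k) (x : sy.M n)).trans (hk _ (Ideal.pow_mem_pow hrm k)))
    have hty : t • y = 0 := by rw [← sy.τ_ρ, hy, map_smul, LinearMap.mem_ker.1 x.2, smul_zero]
    obtain ⟨u, s, hs, h1, h2⟩ := sy.free (n + 1) p hp ht
    obtain ⟨c, hc⟩ := h1 y
    have h3 := h2 (t * c) (by rw [mul_smul, ← hc, smul_comm, hty, smul_zero])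
    rw [mul_left_comm] at h3
    obtain ⟨b, hb⟩ := Ideal.mem_span_singleton'.1 (mem_span_pow_of_mul_mem hreg h3)
    refine ⟨s * s * r ^ k, fun h => (p.isPrime.mem_or_mem h).elim (fun h => (p.isPrime.mem_or_mem h).elim hs hs)
      fun h => hrp (p.isPrime.mem_of_pow_mem _ h), Subtype.ext ?_⟩
    rw [Submodule.coe_smul, mul_smul, ← hy, mul_smul, ← map_smul (sy.ρ n), hc, map_smul, ← mul_smul, ← hb, mul_smul,
      sy.kill, smul_zero]
    rfl
  · exact ⟨t ^ (n + 1), fun h => ht (p.isPrime.mem_of_pow_mem _ h), Subtype.ext (sy.kill n _)⟩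

theorem ι_injective : ∀ n, Function.Injective (sy.ι n)
  | 0 => fun _ _ h => h
  | n + 1 => (sy.τ_injective hreg n).comp (ι_injective n)

theorem t_smul_ι (n : ℕ) (x : sy.M 0) : t • sy.ι n x = 0 := by
  rw [← map_smul, sy.kill₀ x, map_zero]

/-- The kernel of `t` at level `n` is the bottom level. -/
theorem exists_ι_eq (n : ℕ) (x : sy.M n) (hx : t • x = 0) : ∃ y, sy.ι n y = x := by
  let K := LinearMap.ker (t • LinearMap.id : sy.M n →ₗ[B] sy.M n)
  let j : sy.M 0 →ₗ[B] K := LinearMap.codRestrict K (sy.ι n) fun y => sy.t_smul_ι hreg n y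
  have hj : Function.Injective j := fun a b h => sy.ι_injective hreg n (congrArg Subtype.val h)
  have hc : LocCoh.IsPowerTorsion (maximalIdeal B) (K ⧸ LinearMap.range j) := by
    refine isPowerTorsion_of_local fun q p hp => ?_
    obtain ⟨y, rfl⟩ := Submodule.Quotient.mk_surjective _ q
    have hy : t • (y : sy.M n) = 0 := y.2
    by_cases ht : t ∈ p.asIdeal
    · obtain ⟨u, s, hs, h1, h2⟩ := sy.free n p hp ht
      obtain ⟨z, hz⟩ := sy.range_ι_of_local n (p := p) h1 (a := s) (x := (y : sy.M n)) fun c hc => by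
        have h3 := h2 (t * c) (by rw [mul_smul, ← hc, smul_comm, hy, smul_zero])
        rw [mul_left_comm] at h3
        exact mem_span_pow_of_mul_mem hreg h3
      refine ⟨s * s, fun h => (p.isPrime.mem_or_mem h).elim hs hs, ?_⟩
      rw [← Submodule.Quotient.mk_smul, Submodule.Quotient.mk_eq_zero]
      exact ⟨z, Subtype.ext hz⟩
    · exact ⟨t, ht, by rw [← Submodule.Quotient.mk_smul, Submodule.Quotient.mk_eq_zero]; exact ⟨0, Subtype.ext (by rw [map_zero]; exact hy.symm)⟩⟩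
  obtain ⟨y, hy⟩ := (bijective_of_torsionCoker (sy.good 0) (powTors_submodule (sy.good n).powTors_eq K) hj hc).2 ⟨x, hx⟩
  exact ⟨y, congrArg Subtype.val hy⟩

theorem π_τ : ∀ (n : ℕ) (y : sy.M n), sy.π (n + 1) (sy.τ n y) = 0 := fun n y => by
  show sy.π n (sy.ρ n (sy.τ n y)) = 0
  rw [ρ_τ, map_smul]
  exact sy.kill₀ _

/-- The kernel of the projection to the bottom is the previous level. -/
theorem exists_τ_eq (n : ℕ) (x : sy.M (n + 1)) (hx : sy.π (n + 1) x = 0) : ∃ y, sy.τ n y = x := by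
  let K := LinearMap.ker (sy.π (n + 1))
  let j : sy.M n →ₗ[B] K := LinearMap.codRestrict K (sy.τ n) fun y => sy.π_τ hreg n y
  have hj : Function.Injective j := fun a b h => sy.τ_injective hreg n (congrArg Subtype.val h)
  have hc : LocCoh.IsPowerTorsion (maximalIdeal B) (K ⧸ LinearMap.range j) := by
    refine isPowerTorsion_of_local fun q p hp => ?_
    obtain ⟨y, rfl⟩ := Submodule.Quotient.mk_surjective _ q
    by_cases ht : t ∈ p.asIdeal
    · obtain ⟨u, s, hs, h1, h2⟩ := sy.free (n + 1) p hp ht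
      obtain ⟨a, ha, hann⟩ := sy.exists_ann_image _ (sy.π_coker (n + 1)) hp ht hs h1
      obtain ⟨c, hc⟩ := h1 (y : sy.M (n + 1))
      have h3 := hann c (by rw [← map_smul, ← hc, map_smul, LinearMap.mem_ker.1 y.2, smul_zero])
      rw [zero_add, pow_one] at h3
      obtain ⟨b, hb⟩ := Ideal.mem_span_singleton'.1 h3
      refine ⟨a * s, fun h => (p.isPrime.mem_or_mem h).elim ha hs, ?_⟩
      rw [← Submodule.Quotient.mk_smul, Submodule.Quotient.mk_eq_zero]
      refine ⟨b • sy.ρ n u, Subtype.ext ?_⟩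
      show sy.τ n (b • sy.ρ n u) = (a * s) • (y : sy.M (n + 1))
      rw [map_smul, τ_ρ, mul_smul, hc, ← mul_smul, ← mul_smul, hb]
    · refine ⟨t, ht, ?_⟩
      rw [← Submodule.Quotient.mk_smul, Submodule.Quotient.mk_eq_zero]
      exact ⟨sy.ρ n y, Subtype.ext (sy.τ_ρ n y)⟩
  obtain ⟨y, hy⟩ := (bijective_of_torsionCoker (sy.good n) (powTors_submodule (sy.good (n + 1)).powTors_eq K) hj hc).2 ⟨x, hx⟩
  exact ⟨y, congrArg Subtype.val hy⟩

/-- The cokernels of the transition maps embed in `H²` of the bottom level. -/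
theorem exists_coker_embedding (n : ℕ) :
    ∃ f : (sy.M n ⧸ LinearMap.range (sy.ρ n)) →ₗ[B] LocCoh.H (maximalIdeal B) 2 (sy.M 0),
      Function.Injective f := by
  let m := maximalIdeal B
  let R := LinearMap.range (sy.ρ n)
  let C := sy.M n ⧸ R
  let K := LinearMap.ker (sy.ρ n)
  let j : sy.M 0 →ₗ[B] K := LinearMap.codRestrict K (sy.ι (n + 1)) fun y => by
    rw [LinearMap.mem_ker]
    show sy.ρ n (sy.τ n (sy.ι n y)) = 0
    rw [ρ_τ, sy.t_smul_ι hreg]
  have hj : Function.Bijective j := ⟨fun a b h => sy.ι_injective hreg (n + 1) (congrArg Subtype.val h), fun k => by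
    obtain ⟨y, hy⟩ := sy.exists_ι_eq hreg (n + 1) k (sy.ker n k k.2)
    exact ⟨y, Subtype.ext hy⟩⟩
  have hS₁ := shortExact_mk R.subtype R.mkQ R.injective_subtype R.mkQ_surjective (LinearMap.exact_subtype_mkQ R)
  have hS₂ := shortExact_mk K.subtype (sy.ρ n).rangeRestrict K.injective_subtype (sy.ρ n).surjective_rangeRestrict
    (by rw [LinearMap.exact_iff, LinearMap.ker_rangeRestrict, Submodule.range_subtype])
  have h1 : Function.Injective (δ m 0 hS₁) := (injective_iff_map_eq_zero _).2 fun x hx => by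
    obtain ⟨y, rfl⟩ := (exact_map_δ m 0 hS₁ x).1 hx
    exact (congrArg _ ((sy.good n).1.elim y 0)).trans (map_zero _)
  have h2 : Function.Injective (δ m 1 hS₂) := (injective_iff_map_eq_zero _).2 fun x hx => by
    obtain ⟨y, rfl⟩ := (exact_map_δ m 1 hS₂ x).1 hx
    exact (congrArg _ ((sy.good (n + 1)).2.elim y 0)).trans (map_zero _)
  have htop : powTors m C = ⊤ := eq_top_iff.2 fun c _ => mem_powTors_iff.2 (sy.coker n c)
  let e : C ≃ₗ[B] LocCoh.H m 0 C := (Submodule.topEquiv.symm.trans (LinearEquiv.ofEq _ _ htop.symm)).trans (zeroEquiv m C).symm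
  let e' := (hcongr m 2 (LinearEquiv.ofBijective j hj)).symm
  exact ⟨e'.toLinearMap ∘ₗ δ m 1 hS₂ ∘ₗ δ m 0 hS₁ ∘ₗ e.toLinearMap,
    e'.injective.comp (h2.comp (h1.comp e.injective))⟩

/-- The map of cokernels. -/
theorem exists_coker_map (n : ℕ) :
    ∃ f : (sy.M n ⧸ LinearMap.range (sy.ρ n)) →ₗ[B] (sy.M (n + 1) ⧸ LinearMap.range (sy.ρ (n + 1))),
      Function.Injective f ∧ ∀ x, f (Submodule.Quotient.mk x) = Submodule.Quotient.mk (sy.τ n x) := by
  have hle : LinearMap.range (sy.ρ n) ≤ (LinearMap.range (sy.ρ (n + 1))).comap (sy.τ n) := by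
    rintro _ ⟨y, rfl⟩
    exact ⟨sy.τ (n + 1) y, by rw [ρ_τ, τ_ρ]⟩
  refine ⟨Submodule.mapQ _ _ (sy.τ n) hle, (injective_iff_map_eq_zero _).2 fun q hq => ?_, fun x => rfl⟩
  obtain ⟨x, rfl⟩ := Submodule.Quotient.mk_surjective _ q
  rw [Submodule.mapQ_apply, Submodule.Quotient.mk_eq_zero] at hq
  obtain ⟨z, hz⟩ := hq
  have hπ : sy.π (n + 2) z = 0 := by
    show sy.π (n + 1) (sy.ρ (n + 1) z) = 0
    rw [hz, sy.π_τ hreg]
  obtain ⟨w, rfl⟩ := sy.exists_τ_eq hreg (n + 1) z hπ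
  rw [ρ_τ, ← τ_ρ] at hz
  exact (Submodule.Quotient.mk_eq_zero _).2 ⟨w, sy.τ_injective hreg n hz⟩

/-- Eventually the cokernels do not grow. -/
theorem exists_bound (hH : IsFiniteLength B (LocCoh.H (maximalIdeal B) 2 (sy.M 0))) :
    ∃ n₀, ∀ n, n₀ ≤ n → ∀ x : sy.M (n + 1), ∃ y z, x = sy.τ n y + sy.ρ (n + 1) z := by
  choose g hg using sy.exists_coker_embedding hreg
  choose f hf hfτ using sy.exists_coker_map hreg
  let L : ℕ → ℕ∞ := fun n => Module.length B (sy.M n ⧸ LinearMap.range (sy.ρ n))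
  have hH' := Module.length_ne_top_iff.2 hH
  obtain ⟨b, hb⟩ := ENat.ne_top_iff_exists.1 hH'
  have hle : ∀ n, L n ≤ (b : ℕ∞) := fun n => hb ▸ Module.length_le_of_injective (g n) (hg n)
  have hmono : ∀ n, L n ≤ L (n + 1) := fun n => Module.length_le_of_injective (f n) (hf n)
  obtain ⟨n₀, hn₀⟩ : ∃ n₀, ∀ n, n₀ ≤ n → L (n + 1) = L n := by
    have hl : ∀ n, ∃ l : ℕ, L n = l ∧ l ≤ b := fun n => by
      obtain ⟨l, hl⟩ := ENat.ne_top_iff_exists.1 (ne_top_of_le_ne_top (ENat.natCast_ne_top b) (hle n))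
      exact ⟨l, hl.symm, by exact_mod_cast hl.le.trans (hle n)⟩
    choose l hl hlb using hl
    have hmono' : Monotone l := monotone_nat_of_le_succ fun n => by
      have := hmono n
      rw [hl, hl] at this
      exact_mod_cast this
    have hbdd : BddAbove (Set.range l) := ⟨b, by rintro _ ⟨n, rfl⟩; exact hlb n⟩
    obtain ⟨n₀, hn₀⟩ := Nat.sSup_mem (Set.range_nonempty l) hbdd
    refine ⟨n₀, fun n hn => ?_⟩
    rw [hl, hl, le_antisymm ((le_csSup hbdd ⟨n + 1, rfl⟩).trans (hn₀.ge.trans (hmono' hn))) (hmono' n.le_succ)]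
  refine ⟨n₀, fun n hn x => ?_⟩
  have hs : Function.Surjective (f n) := by
    have h := Module.length_eq_add_of_exact (f n) (LinearMap.range (f n)).mkQ (hf n) (Submodule.mkQ_surjective _)
      (f n).exact_map_mkQ_range
    rw [show Module.length B _ = L (n + 1) from rfl, hn₀ n hn] at h
    have h0 := (WithTop.add_left_cancel (ne_top_of_le_ne_top (ENat.natCast_ne_top b) (hle n)) ((add_zero (L n)).trans h)).symm
    haveI := Module.length_eq_zero_iff.1 h0
    exact LinearMap.range_eq_top.1 (Submodule.Quotient.subsingleton_iff.1 this)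
  obtain ⟨q, hq⟩ := hs (Submodule.Quotient.mk x)
  obtain ⟨y, rfl⟩ := Submodule.Quotient.mk_surjective _ q
  rw [hfτ, Submodule.Quotient.eq] at hq
  obtain ⟨z, hz⟩ := hq
  exact ⟨y, -z, by rw [map_neg, hz, neg_sub, add_sub_cancel]⟩

end Sys

end Groth.Agent.CIPic27
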